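import Groth.Agent.Lib.Hensel.Noetherian
import Groth.Agent.Lib.SchPoints.AlgClosed
import Groth.Agent.Lib.FppfSource.Scheme
import Mathlib.AlgebraicGeometry.Fiber
import Mathlib.AlgebraicGeometry.Morphisms.FiniteType

/-!
# Locally noetherian fibres
-/

universe u

open CategoryTheory Limits AlgebraicGeometry TensorProduct

namespace GrothLib.Misc6

theorem isNoetherianRing_tensor_iff {k K B : Type u} [Field k] [Field K] [CommRing B] [Algebra k K] [Algebra k B]
    [Algebra.EssFiniteType k K] : IsNoetherianRing (B ⊗[k] K) ↔ IsNoetherianRing B :=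
  ⟨fun _ => GrothLib.Hensel.isNoetherianRing_of_faithfullyFlat B (B ⊗[k] K),
    fun _ => Algebra.EssFiniteType.isNoetherianRing B _⟩

theorem affine_case {k K : Type u} [Field k] [Field K] (e : k →+* K) (he : e.EssFiniteType)
    {Z : Scheme.{u}} [IsAffine Z] (z : Z ⟶ Spec (CommRingCat.of k)) :
    IsLocallyNoetherian (pullback z (Spec.map (CommRingCat.ofHom e))) ↔ IsLocallyNoetherian Z := by
  let ψ : CommRingCat.of k ⟶ Γ(Z, ⊤) := Spec.preimage (Z.isoSpec.inv ≫ z)
  algebraize [e, ψ.hom]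
  haveI : Algebra.EssFiniteType k K := he
  have hz : z ≫ 𝟙 _ = Z.isoSpec.hom ≫ Spec.map (CommRingCat.ofHom (algebraMap k Γ(Z, ⊤))) := by
    rw [Category.comp_id, RingHom.algebraMap_toAlgebra, CommRingCat.ofHom_hom, Spec.map_preimage,
      Iso.hom_inv_id_assoc]
  let E : pullback z (Spec.map (CommRingCat.ofHom e)) ≅ Spec (CommRingCat.of (Γ(Z, ⊤) ⊗[k] K)) :=
    asIso (pullback.map z (Spec.map (CommRingCat.ofHom e)) (Spec.map (CommRingCat.ofHom (algebraMap k Γ(Z, ⊤))))
      (Spec.map (CommRingCat.ofHom (algebraMap k K))) Z.isoSpec.hom (𝟙 _) (𝟙 _) hz rfl) ≪≫ pullbackSpecIso k Γ(Z, ⊤) K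
  have h1 : IsLocallyNoetherian (pullback z (Spec.map (CommRingCat.ofHom e))) ↔
      IsLocallyNoetherian (Spec (CommRingCat.of (Γ(Z, ⊤) ⊗[k] K))) :=
    ⟨fun _ => isLocallyNoetherian_of_isOpenImmersion E.inv, fun _ => isLocallyNoetherian_of_isOpenImmersion E.hom⟩
  have h2 : IsLocallyNoetherian Z ↔ IsLocallyNoetherian (Spec Γ(Z, ⊤)) :=
    ⟨fun _ => isLocallyNoetherian_of_isOpenImmersion Z.isoSpec.inv, fun _ => isLocallyNoetherian_of_isOpenImmersion Z.isoSpec.hom⟩
  rw [h1, h2, isLocallyNoetherian_Spec, isLocallyNoetherian_Spec]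
  exact isNoetherianRing_tensor_iff

theorem isLocallyNoetherian_fieldExtension {k K : Type u} [Field k] [Field K] (e : k →+* K) (he : e.EssFiniteType)
    {W P : Scheme.{u}} {h : W ⟶ Spec (CommRingCat.of k)} {p₁ : P ⟶ W} {p₂ : P ⟶ Spec (CommRingCat.of K)}
    (hP : IsPullback p₁ p₂ h (Spec.map (CommRingCat.ofHom e))) :
    IsLocallyNoetherian P ↔ IsLocallyNoetherian W := by
  let 𝒰 := W.affineCover
  have hiso : IsLocallyNoetherian P ↔ IsLocallyNoetherian (pullback h (Spec.map (CommRingCat.ofHom e))) :=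
    ⟨fun _ => isLocallyNoetherian_of_isOpenImmersion hP.isoPullback.inv,
      fun _ => isLocallyNoetherian_of_isOpenImmersion hP.isoPullback.hom⟩
  rw [hiso, isLocallyNoetherian_iff_openCover 𝒰,
    isLocallyNoetherian_iff_openCover (Scheme.Pullback.openCoverOfLeft 𝒰 h (Spec.map (CommRingCat.ofHom e)))]
  refine forall_congr' fun i => ?_
  haveI : IsAffine (𝒰.X i) := inferInstance
  exact affine_case e he (𝒰.f i ≫ h)

theorem residueFieldMap_essFiniteType {X Y : Scheme.{u}} (f : X ⟶ Y) [LocallyOfFiniteType f] (x : X) :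
    (f.residueFieldMap x).hom.EssFiniteType :=
  RingHom.EssFiniteType.residueFieldMap (LocallyOfFiniteType.stalkMap f x)

theorem fibre_iff {X Y X' Y' : Scheme.{u}} {f : X ⟶ Y} {f' : X' ⟶ Y'} {g' : X' ⟶ X} {g : Y' ⟶ Y}
    [LocallyOfFiniteType g] (hc : IsPullback g' f' f g) (y' : Y') :
    IsLocallyNoetherian (f'.fiber y') ↔ IsLocallyNoetherian (f.fiber (g y')) :=
  isLocallyNoetherian_fieldExtension _ (residueFieldMap_essFiniteType g y')
    (isPullback_fiberToSpecResidueField_of_isPullback hc y')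

theorem fibre_comp_iff {X' X Y : Scheme.{u}} (a : X' ⟶ X) [Flat a] [LocallyOfFinitePresentation a]
    [Surjective a] (f : X ⟶ Y) (y : Y) :
    IsLocallyNoetherian ((a ≫ f).fiber y) ↔ IsLocallyNoetherian (f.fiber y) := by
  let ι := Y.fromSpecResidueField y
  let m : pullback (a ≫ f) ι ⟶ pullback f ι :=
    pullback.lift (pullback.fst (a ≫ f) ι ≫ a) (pullback.snd (a ≫ f) ι) (by rw [Category.assoc]; exact pullback.condition)
  have hm : IsPullback (pullback.fst (a ≫ f) ι) m a (pullback.fst f ι) := by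
    refine IsPullback.of_bot ?_ (pullback.lift_fst _ _ _).symm (IsPullback.of_hasPullback f ι)
    rw [show m ≫ pullback.snd f ι = pullback.snd (a ≫ f) ι from pullback.lift_snd _ _ _]
    exact IsPullback.of_hasPullback _ _
  haveI : Flat m := MorphismProperty.of_isPullback hm ‹Flat a›
  haveI : LocallyOfFinitePresentation m := MorphismProperty.of_isPullback hm ‹LocallyOfFinitePresentation a›
  haveI : Surjective m := MorphismProperty.of_isPullback hm ‹Surjective a›
  show IsLocallyNoetherian (pullback (a ≫ f) ι) ↔ IsLocallyNoetherian (pullback f ι)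
  exact ⟨fun _ => GrothLib.FppfSource.isLocallyNoetherian_of_fppf m, fun _ => LocallyOfFiniteType.isLocallyNoetherian m⟩

end GrothLib.Misc6
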