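import Mathlib.AlgebraicGeometry.Restrict
import Mathlib.AlgebraicGeometry.Morphisms.Basic
import Mathlib.Algebra.Category.Ring.Constructions
import Mathlib.RingTheory.Localization.Away.Basic
import Mathlib.RingTheory.Localization.Away.Lemmas

/-!
# Spectra turn fibre products with a surjection into pushouts
-/

universe u

open CategoryTheory Limits AlgebraicGeometry

namespace GrothLib.Misc6

variable {P B A' A : Type u} [CommRing P] [CommRing B] [CommRing A'] [CommRing A]

/-- Jointly injective ring maps with jointly surjective spectra. -/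
structure JointPair (f : P →+* B) (g : P →+* A') : Prop where
  inj : ∀ x, f x = 0 → g x = 0 → x = 0
  surj : ∀ x : PrimeSpectrum P, x ∈ Set.range (PrimeSpectrum.comap f) ∨ x ∈ Set.range (PrimeSpectrum.comap g)

/-- A fibre square of rings with one surjective leg. -/
structure FibreSquare (f : P →+* B) (g : P →+* A') (q : B →+* A) (p : A' →+* A) : Prop where
  w : q.comp f = p.comp g
  inj : ∀ x, f x = 0 → g x = 0 → x = 0
  ex : ∀ b a, q b = p a → ∃ x, f x = b ∧ g x = a
  surj : Function.Surjective p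

variable {f : P →+* B} {g : P →+* A'}

theorem FibreSquare.jointPair {q : B →+* A} {p : A' →+* A} (h : FibreSquare f g q p) : JointPair f g := by
  refine ⟨h.inj, fun x => ?_⟩
  by_cases hle : RingHom.ker f ≤ x.asIdeal
  · refine Or.inl ?_
    have hf : Function.Surjective f := fun b => by
      obtain ⟨a, ha⟩ := h.surj (q b)
      obtain ⟨r, hr, -⟩ := h.ex b a ha.symm
      exact ⟨r, hr⟩
    rw [range_comap_of_surjective _ _ hf]
    exact hle
  refine Or.inr ?_
  obtain ⟨y, hy, hyx⟩ := SetLike.not_le_iff_exists.mp hle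
  have hpy : p (g y) = 0 := by
    have := congr($(h.w) y)
    rw [RingHom.comp_apply, RingHom.comp_apply, (show f y = 0 from hy), map_zero] at this
    exact this.symm
  have hlift : ∀ a : A', ∃ r, f r = 0 ∧ g r = a * g y := fun a =>
    h.ex 0 _ (by rw [map_zero, map_mul, hpy, mul_zero])
  choose r hr0 hr using hlift
  have hext : ∀ {a b : P}, f a = f b → g a = g b → a = b := fun {a b} h1 h2 =>
    sub_eq_zero.mp (h.inj _ (by rw [map_sub, h1, sub_self]) (by rw [map_sub, h2, sub_self]))
  let z : Ideal A' :=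
    { carrier := {a | r a ∈ x.asIdeal}
      add_mem' := fun {a b} ha hb => by
        show r (a + b) ∈ x.asIdeal
        rw [show r (a + b) = r a + r b from hext (by simp [hr0]) (by simp [hr, add_mul])]
        exact add_mem ha hb
      zero_mem' := by
        show r 0 ∈ x.asIdeal
        rw [show r 0 = 0 from hext (by simp [hr0]) (by simp [hr])]
        exact x.asIdeal.zero_mem
      smul_mem' := fun c a ha => by
        show r (c * a) ∈ x.asIdeal
        refine (x.isPrime.mem_or_mem (y := y) ?_).resolve_right hyx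
        rw [show r (c * a) * y = r c * r a from
          hext (by simp [hr0]) (by simp [hr]; ring)]
        exact x.asIdeal.mul_mem_left _ ha }
  have hz : ∀ c, g c ∈ z ↔ c ∈ x.asIdeal := fun c => by
    show r (g c) ∈ x.asIdeal ↔ _
    rw [show r (g c) = c * y from hext (by simp [hr0, (show f y = 0 from hy)]) (by simp [hr])]
    exact ⟨fun h => (x.isPrime.mem_or_mem h).resolve_right hyx, fun h => x.asIdeal.mul_mem_right _ h⟩
  have hzp : z.IsPrime := by
    refine ⟨fun e => hyx ((hz y).mp (e ▸ Submodule.mem_top)), fun {a b} hab => ?_⟩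
    have hab' : r (a * b) ∈ x.asIdeal := hab
    refine x.isPrime.mem_or_mem (?_ : r a * r b ∈ x.asIdeal)
    rw [show r a * r b = r (a * b) * y from hext (by simp [hr0]) (by simp [hr]; ring)]
    exact x.asIdeal.mul_mem_right _ hab'
  exact ⟨⟨z, hzp⟩, PrimeSpectrum.ext (Ideal.ext hz)⟩

/-- The map of localizations away from an element. -/
noncomputable def aw {R S : Type u} [CommRing R] [CommRing S] (φ : R →+* S) (s : R) :
    Localization.Away s →+* Localization.Away (φ s) :=
  Localization.awayMap φ s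

theorem aw_algebraMap {R S : Type u} [CommRing R] [CommRing S] (φ : R →+* S) (s r : R) :
    aw φ s (algebraMap R _ r) = algebraMap S _ (φ r) :=
  IsLocalization.map_eq (M := Submonoid.powers s) (T := Submonoid.powers (φ s))
    (show Submonoid.powers s ≤ (Submonoid.powers (φ s)).comap φ by
      rintro _ ⟨n, rfl⟩; exact ⟨n, (map_pow φ s n).symm⟩) r

theorem JointPair.away (h : JointPair f g) (s : P) : JointPair (aw f s) (aw g s) := by
  refine ⟨fun z hz hz' => ?_, fun x => ?_⟩
  · obtain ⟨n, r, hr⟩ := IsLocalization.Away.surj s z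
    have e1 : algebraMap B (Localization.Away (f s)) (f r) = 0 := by
      rw [← aw_algebraMap f s r, ← hr, map_mul, hz, zero_mul]
    have e2 : algebraMap A' (Localization.Away (g s)) (g r) = 0 := by
      rw [← aw_algebraMap g s r, ← hr, map_mul, hz', zero_mul]
    obtain ⟨⟨_, i, rfl⟩, hi⟩ := (IsLocalization.map_eq_zero_iff (.powers (f s)) _ _).mp e1
    obtain ⟨⟨_, j, rfl⟩, hj⟩ := (IsLocalization.map_eq_zero_iff (.powers (g s)) _ _).mp e2
    have h0 : s ^ i * s ^ j * r = 0 := h.inj _
      (by rw [map_mul, map_mul, map_pow, map_pow, mul_right_comm, show f s ^ i * f r = 0 from hi, zero_mul])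
      (by rw [map_mul, map_mul, map_pow, map_pow, mul_assoc, show g s ^ j * g r = 0 from hj, mul_zero])
    have h1 : algebraMap P (Localization.Away s) r = 0 :=
      (IsLocalization.map_eq_zero_iff (.powers s) _ _).mpr ⟨⟨s ^ i * s ^ j, i + j, pow_add s i j⟩, h0⟩
    rw [h1] at hr
    exact (IsUnit.mul_left_eq_zero ((IsLocalization.Away.algebraMap_isUnit s).pow n)).mp hr
  · let x₀ := PrimeSpectrum.comap (algebraMap P (Localization.Away s)) x
    have hx₀ : s ∉ x₀.asIdeal := fun hs => x.isPrime.ne_top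
      (Ideal.eq_top_of_isUnit_mem _ hs (IsLocalization.Away.algebraMap_isUnit s))
    have main : ∀ {S : Type u} [CommRing S] (φ : P →+* S), x₀ ∈ Set.range (PrimeSpectrum.comap φ) →
        x ∈ Set.range (PrimeSpectrum.comap (aw φ s)) := by
      intro S _ φ ⟨z, hz⟩
      have hzs : φ s ∉ z.asIdeal := fun hs => hx₀ (by rw [← hz]; exact hs)
      obtain ⟨z', hz'⟩ : z ∈ Set.range (PrimeSpectrum.comap (algebraMap S (Localization.Away (φ s)))) := by
        rw [PrimeSpectrum.localization_away_comap_range _ (φ s)]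
        exact hzs
      refine ⟨z', PrimeSpectrum.localization_comap_injective _ (Submonoid.powers s) ?_⟩
      show PrimeSpectrum.comap _ _ = x₀
      rw [← hz, ← hz', ← PrimeSpectrum.comap_comp_apply, ← PrimeSpectrum.comap_comp_apply]
      have e : (aw φ s).comp (algebraMap P (Localization.Away s)) = (algebraMap S (Localization.Away (φ s))).comp φ :=
        RingHom.ext fun r => aw_algebraMap φ s r
      rw [e]
    exact (h.surj x₀).imp (main f) (main g)

variable {T : Scheme.{u}}

theorem hom_ext_of_jointPair {P B A' : CommRingCat.{u}} {f : P ⟶ B} {g : P ⟶ A'} (h : JointPair f.hom g.hom)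
    {l₁ l₂ : Spec P ⟶ T} (h₁ : Spec.map f ≫ l₁ = Spec.map f ≫ l₂) (h₂ : Spec.map g ≫ l₁ = Spec.map g ≫ l₂) :
    l₁ = l₂ := by
  have hpt : ∀ x, l₁ x = l₂ x := fun x => by
    rcases h.surj x with ⟨z, rfl⟩ | ⟨z, rfl⟩
    · exact congr($h₁ z)
    · exact congr($h₂ z)
  have hloc : ∀ x : Spec P, ∃ s : P, s ∉ x.asIdeal ∧
      Spec.map (CommRingCat.ofHom (algebraMap P (Localization.Away s))) ≫ l₁ =
        Spec.map (CommRingCat.ofHom (algebraMap P (Localization.Away s))) ≫ l₂ := fun x => by
    obtain ⟨_, ⟨W, hW, rfl⟩, hxW, -⟩ :=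
      T.isBasis_affineOpens.exists_subset_of_mem_open (Set.mem_univ (l₁ x)) isOpen_univ
    obtain ⟨_, ⟨_, ⟨s, rfl⟩, rfl⟩, hxs, hs⟩ := PrimeSpectrum.isBasis_basic_opens.exists_subset_of_mem_open
      (show x ∈ (l₁ ⁻¹ᵁ W : Set (Spec P)) ∩ l₂ ⁻¹ᵁ W from ⟨hxW, by
        show l₂ x ∈ W; rw [← hpt x]; exact hxW⟩)
      ((l₁ ⁻¹ᵁ W).2.inter (l₂ ⁻¹ᵁ W).2)
    refine ⟨s, hxs, ?_⟩
    let ι := Spec.map (CommRingCat.ofHom (algebraMap P (Localization.Away s)))
    have hr : ∀ l : Spec P ⟶ T, (∀ y, (y : PrimeSpectrum P) ∈ PrimeSpectrum.basicOpen s → l y ∈ W) →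
        Set.range (ι ≫ l) ⊆ Set.range hW.fromSpec := fun l hl => by
      rw [hW.range_fromSpec]
      rintro _ ⟨y, rfl⟩
      refine hl _ ?_
      exact (PrimeSpectrum.localization_away_comap_range (Localization.Away s) s).subset ⟨y, rfl⟩
    have r₁ := hr l₁ fun y hy => (hs hy).1
    have r₂ := hr l₂ fun y hy => (hs hy).2
    show ι ≫ l₁ = ι ≫ l₂
    rw [← IsOpenImmersion.lift_fac hW.fromSpec _ r₁, ← IsOpenImmersion.lift_fac hW.fromSpec _ r₂]
    congr 1
    obtain ⟨φ₁, hφ₁⟩ := Spec.map_surjective (IsOpenImmersion.lift hW.fromSpec (ι ≫ l₁) r₁)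
    obtain ⟨φ₂, hφ₂⟩ := Spec.map_surjective (IsOpenImmersion.lift hW.fromSpec (ι ≫ l₂) r₂)
    have key : ∀ {S : CommRingCat.{u}} (φ : P ⟶ S), Spec.map φ ≫ l₁ = Spec.map φ ≫ l₂ →
        φ₁ ≫ CommRingCat.ofHom (aw φ.hom s) = φ₂ ≫ CommRingCat.ofHom (aw φ.hom s) := by
      intro S φ hφ
      apply Spec.map_injective
      rw [← cancel_mono hW.fromSpec, Spec.map_comp, Spec.map_comp, hφ₁, hφ₂, Category.assoc, Category.assoc,
        IsOpenImmersion.lift_fac, IsOpenImmersion.lift_fac, ← Category.assoc, ← Category.assoc]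
      have e : Spec.map (CommRingCat.ofHom (aw φ.hom s)) ≫ ι =
          Spec.map (CommRingCat.ofHom (algebraMap S (Localization.Away (φ.hom s)))) ≫ Spec.map φ := by
        rw [← Spec.map_comp, ← Spec.map_comp]
        congr 1
        ext r
        exact aw_algebraMap φ.hom s r
      rw [e, Category.assoc, Category.assoc, hφ]
    have hj := h.away s
    rw [← hφ₁, ← hφ₂]
    congr 1
    ext r
    exact sub_eq_zero.mp (hj.inj _ (by rw [map_sub, sub_eq_zero]; exact congr($(key f h₁).hom r))
      (by rw [map_sub, sub_eq_zero]; exact congr($(key g h₂).hom r)))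
  choose s hs hs' using hloc
  refine Scheme.Cover.hom_ext
    (Scheme.affineOpenCoverOfSpanRangeEqTop (R := P) s ?_).openCover l₁ l₂ hs'
  rw [Ideal.eq_top_iff_one]
  by_contra h1
  obtain ⟨m, hm, hle⟩ := Ideal.exists_le_maximal _ ((Ideal.ne_top_iff_one _).mpr h1)
  exact hs ⟨m, hm.isPrime⟩ (hle (Ideal.subset_span ⟨_, rfl⟩))


theorem exists_lift_away {f : P →+* B} {g : P →+* A'} {q : B →+* A} {p : A' →+* A} (h : FibreSquare f g q p) (s : P)
    {R : Type u} [CommRing R] (ρB : R →+* Localization.Away (f s)) (ρA : R →+* Localization.Away (g s))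
    {A₂ : Type u} [CommRing A₂] [Algebra A A₂] [IsLocalization.Away (q (f s)) A₂]
    (πB : Localization.Away (f s) →+* A₂) (πA : Localization.Away (g s) →+* A₂)
    (hπB : ∀ b, πB (algebraMap B _ b) = algebraMap A A₂ (q b))
    (hπA : ∀ a, πA (algebraMap A' _ a) = algebraMap A A₂ (p a)) (hρ : πB.comp ρB = πA.comp ρA) :
    ∃ φ : R →+* Localization.Away s, (aw f s).comp φ = ρB ∧ (aw g s).comp φ = ρA := by
  let Φ := (aw f s).prod (aw g s)
  have hΦ : Function.Injective Φ := (injective_iff_map_eq_zero Φ).mpr fun z hz =>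
    (h.jointPair.away s).inj z (congrArg Prod.fst hz) (congrArg Prod.snd hz)
  have hrange : ∀ r, (ρB.prod ρA) r ∈ Φ.range := fun r => by
    obtain ⟨n, b, hb⟩ := IsLocalization.Away.surj (f s) (ρB r)
    obtain ⟨m, a, ha⟩ := IsLocalization.Away.surj (g s) (ρA r)
    have hps : p (g s) = q (f s) := (congr($(h.w) s)).symm
    have e : algebraMap A A₂ (q (b * f s ^ m)) = algebraMap A A₂ (p (a * g s ^ n)) := by
      rw [← hπB, ← hπA, map_mul (algebraMap B (Localization.Away (f s))) b,
        map_mul (algebraMap A' (Localization.Away (g s))) a, ← hb, ← ha]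
      simp only [map_mul, map_pow, hπB, hπA, ← hps]
      rw [show πB (ρB r) = πA (ρA r) from congr($hρ r)]
      ring
    obtain ⟨⟨_, k, rfl⟩, hk⟩ := (IsLocalization.eq_iff_exists (.powers (q (f s))) _).mp e
    obtain ⟨x, hx1, hx2⟩ := h.ex (f s ^ k * (b * f s ^ m)) (g s ^ k * (a * g s ^ n)) (by
      rw [map_mul, map_mul p (g s ^ k), map_pow, map_pow, hps]
      exact hk)
    refine ⟨IsLocalization.mk' (Localization.Away s) x (⟨s ^ (k + n + m), _, rfl⟩ : Submonoid.powers s), Prod.ext ?_ ?_⟩
    · show aw f s _ = ρB r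
      refine ((IsLocalization.Away.algebraMap_isUnit (f s)).pow (k + n + m)).mul_right_cancel ?_
      have h1 := congrArg (aw f s) (IsLocalization.mk'_spec (Localization.Away s) x (⟨s ^ (k + n + m), _, rfl⟩ : Submonoid.powers s))
      rw [map_mul, aw_algebraMap, aw_algebraMap, hx1, map_mul, map_mul, map_pow, map_pow, map_pow, map_pow, ← hb] at h1
      rw [h1]
      ring
    · show aw g s _ = ρA r
      refine ((IsLocalization.Away.algebraMap_isUnit (g s)).pow (k + n + m)).mul_right_cancel ?_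
      have h1 := congrArg (aw g s) (IsLocalization.mk'_spec (Localization.Away s) x (⟨s ^ (k + n + m), _, rfl⟩ : Submonoid.powers s))
      rw [map_mul, aw_algebraMap, aw_algebraMap, hx2, map_mul, map_mul, map_pow, map_pow, map_pow, map_pow, ← ha] at h1
      rw [h1]
      ring
  let e := RingEquiv.ofBijective Φ.rangeRestrict ⟨fun a b hab => hΦ (congrArg Subtype.val hab), Φ.rangeRestrict_surjective⟩
  refine ⟨e.symm.toRingHom.comp ((ρB.prod ρA).codRestrict Φ.range hrange), ?_, ?_⟩
  all_goals
    ext r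
    have := congrArg Subtype.val (e.apply_symm_apply ((ρB.prod ρA).codRestrict Φ.range hrange r))
  · exact congrArg Prod.fst this
  · exact congrArg Prod.snd this

theorem exists_affine_nhd {f : P →+* B} {g : P →+* A'} {q : B →+* A} {p : A' →+* A} (h : FibreSquare f g q p)
    (u : Spec (CommRingCat.of A') ⟶ T) (v : Spec (CommRingCat.of B) ⟶ T)
    (huv : Spec.map (CommRingCat.ofHom q) ≫ v = Spec.map (CommRingCat.ofHom p) ≫ u) (x : PrimeSpectrum P) :
    ∃ s : P, s ∉ x.asIdeal ∧ ∃ W : T.Opens, IsAffineOpen W ∧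
      (∀ z : PrimeSpectrum B, f s ∉ z.asIdeal → v z ∈ W) ∧ (∀ z : PrimeSpectrum A', g s ∉ z.asIdeal → u z ∈ W) := by
  by_cases hx : x ∈ Set.range (PrimeSpectrum.comap f)
  · obtain ⟨b, rfl⟩ := hx
    obtain ⟨_, ⟨W, hW, rfl⟩, hbW, -⟩ :=
      T.isBasis_affineOpens.exists_subset_of_mem_open (Set.mem_univ (v b)) isOpen_univ
    obtain ⟨_, ⟨_, ⟨β, rfl⟩, rfl⟩, hβb, hβ⟩ := PrimeSpectrum.isBasis_basic_opens.exists_subset_of_mem_open
      (u := (v ⁻¹' (W : Set T) : Set (PrimeSpectrum B))) hbW (v ⁻¹ᵁ W).2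
    obtain ⟨K, hK⟩ := (PrimeSpectrum.isClosed_iff_zeroLocus_ideal _).mp
      ((u ⁻¹ᵁ W).2.isClosed_compl : IsClosed (X := PrimeSpectrum A') _)
    have hmem : q β ∈ (K.map p).radical := by
      rw [Ideal.radical_eq_sInf]
      refine Ideal.mem_sInf.mpr fun J ⟨hJ, hJp⟩ => ?_
      by_contra hβJ
      let a : PrimeSpectrum A := ⟨J, hJp⟩
      have h1 : v (PrimeSpectrum.comap q a) ∈ W := hβ hβJ
      have h2 : v (PrimeSpectrum.comap q a) = u (PrimeSpectrum.comap p a) := congr($huv a)
      rw [h2] at h1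
      have h3 : PrimeSpectrum.comap p a ∈ PrimeSpectrum.zeroLocus (K : Set A') := fun y hy =>
        hJ (Ideal.mem_map_of_mem p hy)
      rw [← hK] at h3
      exact h3 h1
    obtain ⟨n, hn⟩ := hmem
    obtain ⟨α, hα, hpα⟩ := (Ideal.mem_map_iff_of_surjective p h.surj).mp hn
    obtain ⟨s, hs1, hs2⟩ := h.ex (β ^ (n + 1)) (α * (h.surj (q β)).choose) (by
      rw [map_pow, map_mul, hpα, (h.surj (q β)).choose_spec, pow_succ])
    refine ⟨s, fun hs => hβb (b.isPrime.mem_of_pow_mem (n + 1) (hs1 ▸ hs)), W, hW, fun z hz => hβ ?_, fun z hz => ?_⟩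
    · intro hzβ
      exact hz (hs1 ▸ z.asIdeal.pow_mem_of_mem hzβ _ n.succ_pos)
    · by_contra hzW
      have h3 : z ∈ PrimeSpectrum.zeroLocus (K : Set A') := by rw [← hK]; exact hzW
      exact hz (hs2 ▸ z.asIdeal.mul_mem_right _ (h3 hα))
  · obtain ⟨z, rfl⟩ := (h.jointPair.surj x).resolve_left hx
    have hz : ¬ RingHom.ker p ≤ z.asIdeal := fun hle => hx (by
      obtain ⟨a, ha⟩ : z ∈ Set.range (PrimeSpectrum.comap p) := by
        rw [range_comap_of_surjective _ _ h.surj]; exact hle
      exact ⟨PrimeSpectrum.comap q a, by rw [← ha, ← PrimeSpectrum.comap_comp_apply, ← PrimeSpectrum.comap_comp_apply, h.w]⟩)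
    obtain ⟨c, hc, hcz⟩ := SetLike.not_le_iff_exists.mp hz
    obtain ⟨_, ⟨W, hW, rfl⟩, hzW, -⟩ :=
      T.isBasis_affineOpens.exists_subset_of_mem_open (Set.mem_univ (u z)) isOpen_univ
    obtain ⟨_, ⟨_, ⟨α, rfl⟩, rfl⟩, hαz, hα⟩ := PrimeSpectrum.isBasis_basic_opens.exists_subset_of_mem_open
      (u := (u ⁻¹' (W : Set T) : Set (PrimeSpectrum A'))) hzW (u ⁻¹ᵁ W).2
    obtain ⟨s, hs1, hs2⟩ := h.ex 0 (c * α) (by rw [map_zero, map_mul, (show p c = 0 from hc), zero_mul])
    refine ⟨s, fun hs => ?_, W, hW, fun y hy => absurd (hs1 ▸ y.asIdeal.zero_mem) hy, fun y hy => hα ?_⟩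
    · exact (z.isPrime.mem_or_mem (hs2 ▸ hs)).elim hcz hαz
    · intro hyα
      exact hy (hs2 ▸ y.asIdeal.mul_mem_left _ hyα)

theorem range_specMap_away {R : Type u} [CommRing R] (r : R) :
    Set.range (Spec.map (CommRingCat.ofHom (algebraMap R (Localization.Away r)))) =
      (PrimeSpectrum.basicOpen r : Set (PrimeSpectrum R)) :=
  PrimeSpectrum.localization_away_comap_range _ r

theorem isPushout_spec {P B A' A : CommRingCat.{u}} {f : P ⟶ B} {g : P ⟶ A'} {q : B ⟶ A} {p : A' ⟶ A}
    (h : FibreSquare f.hom g.hom q.hom p.hom) :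
    IsPushout (Spec.map p) (Spec.map q) (Spec.map g) (Spec.map f) := by
  have hw : Spec.map p ≫ Spec.map g = Spec.map q ≫ Spec.map f := by
    rw [← Spec.map_comp, ← Spec.map_comp]
    congr 1
    exact CommRingCat.hom_ext h.w.symm
  suffices key : ∀ (T : Scheme.{u}) (u : Spec A' ⟶ T) (v : Spec B ⟶ T), Spec.map p ≫ u = Spec.map q ≫ v →
      ∃ l : Spec P ⟶ T, Spec.map g ≫ l = u ∧ Spec.map f ≫ l = v by
    choose l hl using key
    refine IsPushout.of_isColimit (PushoutCocone.IsColimit.mk hw
      (fun c => l c.pt c.inl c.inr c.condition) (fun c => (hl c.pt c.inl c.inr c.condition).1)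
      (fun c => (hl c.pt c.inl c.inr c.condition).2) fun c m h1 h2 => ?_)
    exact hom_ext_of_jointPair h.jointPair (h2.trans (hl c.pt c.inl c.inr c.condition).2.symm)
      (h1.trans (hl c.pt c.inl c.inr c.condition).1.symm)
  intro T u v huv
  have hloc : ∀ x : PrimeSpectrum P, ∃ s : P, s ∉ x.asIdeal ∧ ∃ l : Spec (CommRingCat.of (Localization.Away s)) ⟶ T,
      Spec.map (CommRingCat.ofHom (aw f.hom s)) ≫ l =
        Spec.map (CommRingCat.ofHom (algebraMap B (Localization.Away (f.hom s)))) ≫ v ∧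
      Spec.map (CommRingCat.ofHom (aw g.hom s)) ≫ l =
        Spec.map (CommRingCat.ofHom (algebraMap A' (Localization.Away (g.hom s)))) ≫ u := fun x => by
    obtain ⟨s, hs, W, hW, hv, hu⟩ := exists_affine_nhd h u v huv.symm x
    refine ⟨s, hs, ?_⟩
    let A₂ := Localization.Away (q.hom (f.hom s))
    have hps : p.hom (g.hom s) = q.hom (f.hom s) := (congr($(h.w) s)).symm
    let πB : Localization.Away (f.hom s) →+* A₂ := IsLocalization.Away.lift (f.hom s) (g := (algebraMap A A₂).comp q.hom)
      (IsLocalization.Away.algebraMap_isUnit (q.hom (f.hom s)))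
    let πA : Localization.Away (g.hom s) →+* A₂ := IsLocalization.Away.lift (g.hom s) (g := (algebraMap A A₂).comp p.hom)
      (by rw [RingHom.comp_apply, hps]; exact IsLocalization.Away.algebraMap_isUnit (q.hom (f.hom s)))
    have hπB : ∀ b, πB (algebraMap B _ b) = algebraMap A A₂ (q.hom b) := IsLocalization.Away.lift_eq (f.hom s) _
    have hπA : ∀ a, πA (algebraMap A' _ a) = algebraMap A A₂ (p.hom a) := IsLocalization.Away.lift_eq (g.hom s) _
    let vs := Spec.map (CommRingCat.ofHom (algebraMap B (Localization.Away (f.hom s)))) ≫ v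
    let us := Spec.map (CommRingCat.ofHom (algebraMap A' (Localization.Away (g.hom s)))) ≫ u
    have rv : Set.range vs ⊆ Set.range hW.fromSpec := by
      rw [hW.range_fromSpec]; rintro _ ⟨y, rfl⟩
      exact hv _ ((range_specMap_away (f.hom s)).subset ⟨y, rfl⟩)
    have ru : Set.range us ⊆ Set.range hW.fromSpec := by
      rw [hW.range_fromSpec]; rintro _ ⟨y, rfl⟩
      exact hu _ ((range_specMap_away (g.hom s)).subset ⟨y, rfl⟩)
    obtain ⟨ρB, hρB⟩ := Spec.map_surjective (IsOpenImmersion.lift hW.fromSpec vs rv)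
    obtain ⟨ρA, hρA⟩ := Spec.map_surjective (IsOpenImmersion.lift hW.fromSpec us ru)
    have hρ : ρB ≫ CommRingCat.ofHom πB = ρA ≫ CommRingCat.ofHom πA := by
      apply Spec.map_injective
      rw [← cancel_mono hW.fromSpec, Spec.map_comp, Spec.map_comp, hρB, hρA, Category.assoc, Category.assoc,
        IsOpenImmersion.lift_fac, IsOpenImmersion.lift_fac]
      simp only [vs, us, ← Category.assoc, ← Spec.map_comp]
      rw [show CommRingCat.ofHom (algebraMap B (Localization.Away (f.hom s))) ≫ CommRingCat.ofHom πB =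
          q ≫ CommRingCat.ofHom (algebraMap A A₂) from CommRingCat.hom_ext (RingHom.ext hπB),
        show CommRingCat.ofHom (algebraMap A' (Localization.Away (g.hom s))) ≫ CommRingCat.ofHom πA =
          p ≫ CommRingCat.ofHom (algebraMap A A₂) from CommRingCat.hom_ext (RingHom.ext hπA),
        Spec.map_comp, Spec.map_comp, Category.assoc, Category.assoc, huv]
    obtain ⟨φ, hφB, hφA⟩ := exists_lift_away h s ρB.hom ρA.hom πB πA hπB hπA (congrArg CommRingCat.Hom.hom hρ)
    refine ⟨Spec.map (CommRingCat.ofHom φ) ≫ hW.fromSpec, ?_, ?_⟩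
    · rw [← Category.assoc, ← Spec.map_comp,
        show CommRingCat.ofHom φ ≫ CommRingCat.ofHom (aw f.hom s) = ρB from CommRingCat.hom_ext hφB,
        hρB, IsOpenImmersion.lift_fac]
    · rw [← Category.assoc, ← Spec.map_comp,
        show CommRingCat.ofHom φ ≫ CommRingCat.ofHom (aw g.hom s) = ρA from CommRingCat.hom_ext hφA,
        hρA, IsOpenImmersion.lift_fac]
  choose s hs l hlB hlA using hloc
  have hspan : Ideal.span (Set.range s) = ⊤ := by
    rw [Ideal.eq_top_iff_one]
    by_contra h1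
    obtain ⟨m, hm, hle⟩ := Ideal.exists_le_maximal _ ((Ideal.ne_top_iff_one _).mpr h1)
    exact hs ⟨m, hm.isPrime⟩ (hle (Ideal.subset_span ⟨_, rfl⟩))
  let 𝒰 := (Scheme.affineOpenCoverOfSpanRangeEqTop (R := P) s hspan).openCover
  let ι : ∀ r : P, Spec (CommRingCat.of (Localization.Away r)) ⟶ Spec P := fun r =>
    Spec.map (CommRingCat.ofHom (algebraMap P (Localization.Away r)))
  have hawι : ∀ {S : CommRingCat.{u}} (φ : P ⟶ S) (r : P), Spec.map (CommRingCat.ofHom (aw φ.hom r)) ≫ ι r =
      Spec.map (CommRingCat.ofHom (algebraMap S (Localization.Away (φ.hom r)))) ≫ Spec.map φ := fun φ r => by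
    rw [← Spec.map_comp, ← Spec.map_comp]
    congr 1
    exact CommRingCat.hom_ext (RingHom.ext (aw_algebraMap φ.hom r))
  have hov : ∀ x y : PrimeSpectrum P, pullback.fst (ι (s x)) (ι (s y)) ≫ l x = pullback.snd (ι (s x)) (ι (s y)) ≫ l y := by
    intro x y
    let t := s x * s y
    let ux : Spec (CommRingCat.of (Localization.Away t)) ⟶ _ :=
      Spec.map (CommRingCat.ofHom (IsLocalization.Away.awayToAwayRight (S := Localization.Away (s x))
        (P := Localization.Away t) (s x) (s y)))
    let uy : Spec (CommRingCat.of (Localization.Away t)) ⟶ _ :=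
      Spec.map (CommRingCat.ofHom (IsLocalization.Away.awayToAwayLeft (S := Localization.Away (s y))
        (P := Localization.Away t) (s y) (s x)))
    have hux : ux ≫ ι (s x) = ι t := by
      rw [← Spec.map_comp]; congr 1
      exact CommRingCat.hom_ext (RingHom.ext fun r => by
        show IsLocalization.Away.awayToAwayRight (s x) (s y) (algebraMap P _ r) = _
        exact IsLocalization.Away.lift_eq _ _ r)
    have huy : uy ≫ ι (s y) = ι t := by
      rw [← Spec.map_comp]; congr 1
      exact CommRingCat.hom_ext (RingHom.ext fun r => by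
        show IsLocalization.Away.awayToAwayLeft (s y) (s x) (algebraMap P _ r) = _
        exact IsLocalization.Away.lift_eq _ _ r)
    have heq : ux ≫ l x = uy ≫ l y := by
      have key : ∀ {S : CommRingCat.{u}} (φ : P ⟶ S) (w : Spec S ⟶ T),
          (∀ z, Spec.map (CommRingCat.ofHom (aw φ.hom (s z))) ≫ l z =
            Spec.map (CommRingCat.ofHom (algebraMap S (Localization.Away (φ.hom (s z))))) ≫ w) →
          Spec.map (CommRingCat.ofHom (aw φ.hom t)) ≫ ux ≫ l x = Spec.map (CommRingCat.ofHom (aw φ.hom t)) ≫ uy ≫ l y := by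
        intro S φ w hw'
        let b := Spec.map (CommRingCat.ofHom (algebraMap S (Localization.Away (φ.hom t))))
        have main : ∀ (z : PrimeSpectrum P) (uz : Spec (CommRingCat.of (Localization.Away t)) ⟶
            Spec (CommRingCat.of (Localization.Away (s z)))), uz ≫ ι (s z) = ι t →
            Spec.map (CommRingCat.ofHom (aw φ.hom t)) ≫ uz ≫ l z = b ≫ w := by
          intro z uz huz
          let ιz := Spec.map (CommRingCat.ofHom (algebraMap S (Localization.Away (φ.hom (s z)))))
          have hr : Set.range b ⊆ Set.range ιz := by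
            rintro _ ⟨c, rfl⟩
            rw [range_specMap_away (φ.hom (s z))]
            have h1 : Spec.map φ (b c) ∈ Set.range (ι (s z)) := by
              refine ⟨uz (Spec.map (CommRingCat.ofHom (aw φ.hom t)) c), ?_⟩
              rw [← Scheme.Hom.comp_apply, huz, ← Scheme.Hom.comp_apply, hawι]
              rfl
            rw [range_specMap_away (s z)] at h1
            exact h1
          let k := IsOpenImmersion.lift ιz b hr
          have hk : k ≫ ιz = b := IsOpenImmersion.lift_fac _ _ _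
          have hk2 : Spec.map (CommRingCat.ofHom (aw φ.hom t)) ≫ uz = k ≫ Spec.map (CommRingCat.ofHom (aw φ.hom (s z))) := by
            rw [← cancel_mono (ι (s z)), Category.assoc, Category.assoc, huz, hawι φ (s z), reassoc_of% hk, hawι φ t]
          rw [reassoc_of% hk2, hw', reassoc_of% hk]
        rw [main x ux hux, main y uy huy]
      exact hom_ext_of_jointPair (f := CommRingCat.ofHom (aw f.hom t)) (g := CommRingCat.ofHom (aw g.hom t))
        (h.jointPair.away t) (key f v hlB) (key g u hlA)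
    have hr : Set.range (pullback.fst (ι (s x)) (ι (s y)) ≫ ι (s x)) ⊆ Set.range (ι t) := by
      rintro _ ⟨z, rfl⟩
      rw [range_specMap_away t, PrimeSpectrum.basicOpen_mul]
      refine ⟨(range_specMap_away (s x)).subset ⟨_, rfl⟩, ?_⟩
      rw [pullback.condition]
      exact (range_specMap_away (s y)).subset ⟨_, rfl⟩
    let k := IsOpenImmersion.lift (ι t) _ hr
    have hk : k ≫ ι t = pullback.fst (ι (s x)) (ι (s y)) ≫ ι (s x) := IsOpenImmersion.lift_fac _ _ _
    have h1 : k ≫ ux = pullback.fst (ι (s x)) (ι (s y)) := by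
      rw [← cancel_mono (ι (s x)), Category.assoc, hux, hk]
    have h2 : k ≫ uy = pullback.snd (ι (s x)) (ι (s y)) := by
      rw [← cancel_mono (ι (s y)), Category.assoc, huy, hk, pullback.condition]
    rw [← h1, ← h2, Category.assoc, Category.assoc, heq]
  let L : Spec P ⟶ T := Scheme.Cover.glueMorphisms 𝒰 l hov
  have hL : ∀ x, ι (s x) ≫ L = l x := Scheme.Cover.ι_glueMorphisms 𝒰 l hov
  have hfin : ∀ {S : CommRingCat.{u}} (φ : P ⟶ S) (w : Spec S ⟶ T),
      (∀ z, Spec.map (CommRingCat.ofHom (aw φ.hom (s z))) ≫ l z =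
        Spec.map (CommRingCat.ofHom (algebraMap S (Localization.Away (φ.hom (s z))))) ≫ w) →
      Spec.map φ ≫ L = w := by
    intro S φ w hw'
    refine Scheme.Cover.hom_ext (Scheme.affineOpenCoverOfSpanRangeEqTop (R := S) (fun z => φ.hom (s z)) ?_).openCover
      _ _ fun z => ?_
    · rw [show Set.range (fun z => φ.hom (s z)) = φ.hom '' Set.range s from (Set.range_comp φ.hom s),
        ← Ideal.map_span, hspan, Ideal.map_top]
    · show Spec.map (CommRingCat.ofHom (algebraMap S _)) ≫ _ = _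
      rw [← Category.assoc, ← hawι, Category.assoc, hL, hw']
      rfl
  exact ⟨L, hfin g u hlA, hfin f v hlB⟩

end GrothLib.Misc6
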