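import Mathlib.AlgebraicGeometry.Morphisms.SchemeTheoreticallyDominant
import Mathlib.AlgebraicGeometry.Morphisms.ClosedImmersion
import Mathlib.AlgebraicGeometry.Morphisms.QuasiCompact
import Mathlib.AlgebraicGeometry.Morphisms.IsIso

/-!
# Closed immersions and lifting along injective ring maps
-/

universe u

open CategoryTheory Limits AlgebraicGeometry

namespace GrothLib.Misc6

variable {X Y : Scheme.{u}} (f : X ⟶ Y)

/-- Lifting against spectra of injective ring maps. -/
def LiftsInjective : Prop :=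
  ∀ (A B : Type u) [CommRing A] [CommRing B] (φ : A →+* B), Function.Injective φ →
    ∀ (a : Spec (CommRingCat.of B) ⟶ X) (b : Spec (CommRingCat.of A) ⟶ Y), Spec.map (CommRingCat.ofHom φ) ≫ b = a ≫ f →
      ∃ l : Spec (CommRingCat.of A) ⟶ X, Spec.map (CommRingCat.ofHom φ) ≫ l = a ∧ l ≫ f = b

theorem liftsInjective_of_isClosedImmersion [IsClosedImmersion f] : LiftsInjective f := by
  intro A B _ _ φ hφ a b w
  let j := pullback.snd f b
  haveI : IsAffine (pullback f b) := IsClosedImmersion.isAffine_surjective_of_isAffine j |>.1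
  have hs : Function.Surjective j.appTop := IsClosedImmersion.isAffine_surjective_of_isAffine j |>.2
  have hi : Function.Injective j.appTop := by
    let m := pullback.lift a (Spec.map (CommRingCat.ofHom φ)) w.symm
    have h1 : Function.Injective (Spec.map (CommRingCat.ofHom φ)).appTop := by
      have h : (Spec.map (CommRingCat.ofHom φ)).appTop = (Scheme.ΓSpecIso _).hom ≫ CommRingCat.ofHom φ ≫
          (Scheme.ΓSpecIso _).inv := by
        rw [← Category.assoc]
        exact (Iso.eq_comp_inv _).mpr (Scheme.ΓSpecIso_naturality _)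
      rw [h]
      exact ((Scheme.ΓSpecIso _).symm.commRingCatIsoToRingEquiv.injective.comp hφ).comp
        (Scheme.ΓSpecIso _).commRingCatIsoToRingEquiv.injective
    rw [← pullback.lift_snd a (Spec.map (CommRingCat.ofHom φ)) w.symm, Scheme.Hom.comp_appTop] at h1
    intro x y hxy
    apply h1
    rw [CommRingCat.comp_apply, CommRingCat.comp_apply]
    exact congrArg _ hxy
  haveI : IsIso j.appTop := (ConcreteCategory.isIso_iff_bijective _).mpr ⟨hi, hs⟩
  haveI : IsIso j := by
    rw [show j = (pullback f b).isoSpec.hom ≫ Spec.map j.appTop ≫ (Spec (CommRingCat.of A)).isoSpec.inv by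
      rw [← Category.assoc, Iso.eq_comp_inv, Scheme.isoSpec_hom_naturality]]
    infer_instance
  refine ⟨inv j ≫ pullback.fst f b, ?_, ?_⟩
  · rw [← cancel_mono f, Category.assoc, Category.assoc, pullback.condition, IsIso.inv_hom_id_assoc, w]
  · rw [Category.assoc, pullback.condition, IsIso.inv_hom_id_assoc]

variable [QuasiCompact f]

theorem isSchemeTheoreticallyDominant_toImage : IsSchemeTheoreticallyDominant f.toImage := by
  refine ⟨Scheme.IdealSheafData.ext_of_iSup_eq_top
    (fun U : Y.affineOpens => ⟨f.imageι ⁻¹ᵁ U, U.2.preimage f.imageι⟩) ?_ fun U => ?_⟩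
  · refine top_le_iff.mp fun z _ => ?_
    obtain ⟨_, ⟨U, hU, rfl⟩, hz, -⟩ :=
      Y.isBasis_affineOpens.exists_subset_of_mem_open (Set.mem_univ (f.imageι z)) isOpen_univ
    exact TopologicalSpace.Opens.mem_iSup.mpr ⟨⟨U, hU⟩, hz⟩
  · rw [Scheme.Hom.ker_apply, Scheme.IdealSheafData.ideal_bot, Pi.bot_apply]
    exact (RingHom.injective_iff_ker_eq_bot _).mp (f.toImage_app_injective U)

theorem liftsInjective_toImage (h : LiftsInjective f) : LiftsInjective f.toImage := by
  intro A B _ _ φ hφ a b w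
  obtain ⟨l, hl, hlf⟩ := h A B φ hφ a (b ≫ f.imageι) (by rw [reassoc_of% w, f.toImage_imageι])
  exact ⟨l, hl, by rw [← cancel_mono f.imageι, Category.assoc, f.toImage_imageι, hlf]⟩

theorem isIso_of_liftsInjective [IsSchemeTheoreticallyDominant f] (h : LiftsInjective f) : IsIso f := by
  change MorphismProperty.isomorphisms Scheme f
  refine IsZariskiLocalAtTarget.of_iSup_eq_top (fun W : Y.affineOpens => W.1) (iSup_affineOpens_eq_top Y) fun W => ?_
  show IsIso (f ∣_ W.1)
  haveI : IsAffine W.1.toScheme := W.2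
  haveI : CompactSpace (f ⁻¹ᵁ W.1).toScheme :=
    isCompact_iff_compactSpace.mp (f.isCompact_preimage W.2.isCompact)
  let g := f ∣_ W.1
  let 𝒰 := (f ⁻¹ᵁ W.1).toScheme.affineCover.finiteSubcover
  let p := Sigma.desc 𝒰.f
  haveI : ∀ i, IsAffine (𝒰.X i) := fun i => inferInstance
  haveI : IsAffine (∐ 𝒰.X) := inferInstance
  have hp : Function.Injective p.appTop := by
    rw [injective_iff_map_eq_zero]
    intro s hs
    refine TopCat.Sheaf.eq_of_locally_eq' (f ⁻¹ᵁ W.1).toScheme.sheaf (fun i => (𝒰.f i).opensRange) ⊤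
      (fun i => homOfLE le_top) 𝒰.iSup_opensRange.ge s 0 fun i => ?_
    rw [map_zero]
    have : (𝒰.f i).appTop s = 0 := by
      have e : (𝒰.f i).appTop = p.appTop ≫ (Sigma.ι 𝒰.X i).appTop := by
        rw [← Scheme.Hom.comp_appTop, Sigma.ι_desc]
      rw [e, CommRingCat.comp_apply, hs, map_zero]
    have e2 : (𝒰.f i).appTop = (f ⁻¹ᵁ W.1).toScheme.presheaf.map (homOfLE le_top).op ≫
        (𝒰.f i).appLE (𝒰.f i).opensRange ⊤ (by simp) := by
      rw [Scheme.Hom.map_appLE]
      simp [Scheme.Hom.appLE]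
    rw [e2, CommRingCat.comp_apply] at this
    haveI hiso : IsIso ((𝒰.f i).appLE (𝒰.f i).opensRange ⊤ (by simp)) := by
      haveI : IsIso ((𝒰.f i).app (𝒰.f i).opensRange) := Scheme.Hom.isIso_app (𝒰.f i) _ le_rfl
      have hm : ∀ (U V : (𝒰.X i).Opens) (hVU : V ≤ U), U = V →
          IsIso ((𝒰.X i).presheaf.map (homOfLE hVU).op) := fun U V hVU e => by
        subst e
        rw [show homOfLE hVU = 𝟙 U from rfl, op_id, CategoryTheory.Functor.map_id]
        exact inferInstance
      haveI := hm ((𝒰.f i) ⁻¹ᵁ (𝒰.f i).opensRange) ⊤ (le_of_eq (Scheme.Hom.preimage_opensRange _).symm) (Scheme.Hom.preimage_opensRange _)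
      exact IsIso.comp_isIso' ‹_› this
    exact (@ConcreteCategory.bijective_of_isIso _ _ _ _ _ _ _ _ _ hiso).1
      (this.trans (map_zero _).symm)
  have hg : Function.Injective g.appTop := by
    have hf := f.app_injective (W.1.ι ''ᵁ ⊤)
    intro x y hxy
    have e := morphismRestrict_app f W.1 ⊤
    have hxy' : (f.app (W.1.ι ''ᵁ ⊤) ≫ X.presheaf.map (eqToHom (image_morphismRestrict_preimage f W.1 ⊤)).op) x =
        (f.app (W.1.ι ''ᵁ ⊤) ≫ X.presheaf.map (eqToHom (image_morphismRestrict_preimage f W.1 ⊤)).op) y := by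
      rw [← e]; exact hxy
    exact hf ((ConcreteCategory.bijective_of_isIso _).1 hxy')
  let φ := (p ≫ g).appTop
  have hφ : Function.Injective φ := by
    show Function.Injective (p ≫ g).appTop
    intro x y hxy
    rw [Scheme.Hom.comp_appTop, CommRingCat.comp_apply, CommRingCat.comp_apply] at hxy
    exact hg (hp hxy)
  obtain ⟨l, hl, hlf⟩ := h _ _ φ.hom hφ ((∐ 𝒰.X).isoSpec.inv ≫ p ≫ (f ⁻¹ᵁ W.1).ι)
    (W.1.toScheme.isoSpec.inv ≫ W.1.ι) (by
      rw [CommRingCat.ofHom_hom, ← Category.assoc, Scheme.isoSpec_inv_naturality, Category.assoc,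
        Category.assoc, Category.assoc, morphismRestrict_ι, Category.assoc])
  let m := W.1.toScheme.isoSpec.hom ≫ l
  have hm : m ≫ f = W.1.ι := by
    show (_ ≫ l) ≫ f = _
    rw [Category.assoc, hlf, Iso.hom_inv_id_assoc]
  have hpm : p ≫ g ≫ m = p ≫ (f ⁻¹ᵁ W.1).ι := by
    rw [← cancel_epi (∐ 𝒰.X).isoSpec.inv]
    show _ ≫ p ≫ g ≫ W.1.toScheme.isoSpec.hom ≫ l = _
    rw [CommRingCat.ofHom_hom] at hl
    rw [← hl]
    show _ = Spec.map φ ≫ l
    rw [← Category.assoc p g, ← Scheme.isoSpec_hom_naturality_assoc, Iso.inv_hom_id_assoc]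
  have hr : Set.range m ⊆ Set.range (f ⁻¹ᵁ W.1).ι := by
    rintro _ ⟨w, rfl⟩
    rw [Scheme.Opens.range_ι]
    show f (m w) ∈ W.1
    rw [← Scheme.Hom.comp_apply, hm]
    exact w.2
  let m' := IsOpenImmersion.lift (f ⁻¹ᵁ W.1).ι m hr
  have hm' : m' ≫ (f ⁻¹ᵁ W.1).ι = m := IsOpenImmersion.lift_fac _ _ _
  refine ⟨m', ?_, ?_⟩
  · rw [← cancel_mono (f ⁻¹ᵁ W.1).ι]
    refine Scheme.Cover.hom_ext 𝒰 _ _ fun i => ?_
    have := congrArg (Sigma.ι 𝒰.X i ≫ ·) hpm
    simp only [← Category.assoc, p, Sigma.ι_desc] at this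
    rw [Category.assoc, hm', Category.id_comp, ← Category.assoc]
    exact this
  · rw [← cancel_mono W.1.ι, Category.assoc, morphismRestrict_ι, ← Category.assoc, hm', hm, Category.id_comp]

theorem isClosedImmersion_iff_liftsInjective : IsClosedImmersion f ↔ LiftsInjective f := by
  refine ⟨fun _ => liftsInjective_of_isClosedImmersion f, fun h => ?_⟩
  haveI := isSchemeTheoreticallyDominant_toImage f
  haveI := isIso_of_liftsInjective f.toImage (liftsInjective_toImage f h)
  rw [← f.toImage_imageι]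
  infer_instance

end GrothLib.Misc6
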