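import Mathlib.AlgebraicGeometry.IdealSheaf.Functorial
import Mathlib.AlgebraicGeometry.Morphisms.QuasiCompact
import Mathlib.AlgebraicGeometry.Morphisms.Flat
import Mathlib.RingTheory.Localization.AtPrime.Basic
import Mathlib.RingTheory.Noetherian.Basic

/-!
# Small lemmas
-/

universe u

namespace GrothLib.Misc6

open AlgebraicGeometry CategoryTheory Limits

/-- In a domain a nonzero nonunit is not in all powers of a f.g. ideal inside its radical. -/
theorem not_forall_mem_pow {D : Type*} [CommRing D] [IsDomain D] {x : D} (hx : x ≠ 0) (hu : ¬ IsUnit x)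
    {J : Ideal D} (hJ : J.FG) (hle : J ≤ (Ideal.span {x}).radical) : ¬ ∀ n : ℕ, 1 ≤ n → x ∈ J ^ n := by
  intro h
  obtain ⟨N, hN⟩ := Ideal.exists_pow_le_of_le_radical_of_fg hle hJ
  have h2 : J ^ (2 * (N + 1)) ≤ Ideal.span {x * x} := by
    rw [← Ideal.span_singleton_mul_span_singleton, two_mul, pow_add]
    exact Ideal.mul_mono ((Ideal.pow_le_pow_right (Nat.le_succ N)).trans hN)
      ((Ideal.pow_le_pow_right (Nat.le_succ N)).trans hN)
  obtain ⟨c, hc⟩ := Ideal.mem_span_singleton'.mp (h2 (h _ (by omega)))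
  refine hu (isUnit_of_dvd_one ⟨c, mul_left_cancel₀ hx ?_⟩)
  rw [mul_one]
  linear_combination -hc

theorem ker_comp_sq_le {X T T' : Scheme.{u}} (t : T ⟶ T') [QuasiCompact t] (ht : t.ker * t.ker = ⊥)
    (b : T' ⟶ X) {I : X.IdealSheafData} (h : I ≤ (t ≫ b).ker) : I ^ 2 ≤ b.ker := by
  rw [Scheme.Hom.ker, Scheme.IdealSheafData.le_ofIdeals_iff]
  intro U
  rw [pow_two, Scheme.IdealSheafData.ideal_mul, Pi.mul_apply, Ideal.mul_le]
  intro r hr s hs
  have key : ∀ r ∈ I.ideal U, (t.app (b ⁻¹ᵁ U)).hom ((b.app U).hom r) = 0 := fun r hr => by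
    have := (t ≫ b).ideal_ker_le U (h U hr)
    rw [RingHom.mem_ker, Scheme.Hom.comp_app] at this
    exact this
  rw [RingHom.mem_ker, map_mul]
  apply TopCat.Sheaf.eq_of_locally_eq' T'.sheaf
    (fun p : {V : T'.affineOpens // (V.1 : Set T') ⊆ b ⁻¹ᵁ U} => p.1.1) (b ⁻¹ᵁ U)
    (fun p => homOfLE p.2)
  · intro x hx
    obtain ⟨_, ⟨V, hV, rfl⟩, hxV, hle⟩ :=
      T'.isBasis_affineOpens.exists_subset_of_mem_open hx (b ⁻¹ᵁ U).2
    exact TopologicalSpace.Opens.mem_iSup.mpr ⟨⟨⟨V, hV⟩, hle⟩, hxV⟩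
  · rintro ⟨V, hle⟩
    have hV : ∀ r ∈ I.ideal U, (T'.presheaf.map (homOfLE hle).op).hom ((b.app U).hom r) ∈ t.ker.ideal V := by
      intro r hr
      rw [Scheme.Hom.ker_apply, RingHom.mem_ker]
      have hn := congr($(t.naturality (homOfLE hle).op).hom ((b.app U).hom r))
      simp only [CommRingCat.hom_comp, RingHom.comp_apply] at hn
      refine hn.trans ?_
      rw [key r hr, map_zero]
    have := Ideal.mul_mem_mul (hV r hr) (hV s hs)
    rw [← Pi.mul_apply, ← Scheme.IdealSheafData.ideal_mul, ht, Scheme.IdealSheafData.ideal_bot,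
      Pi.bot_apply, Submodule.mem_bot, ← map_mul] at this
    exact this.trans (map_zero _).symm

theorem quasiCompact_of_comp {X P S : Scheme.{u}} (p : P ⟶ X) (f : X ⟶ S) [Surjective p]
    [QuasiCompact (p ≫ f)] : QuasiCompact f := by
  refine ⟨fun U hU hc => ?_⟩
  rw [← Set.image_preimage_eq (f ⁻¹' U) p.surjective]
  exact (QuasiCompact.isCompact_preimage (f := p ≫ f) U hU hc).image p.continuous

theorem flat_of_retract {X P S : Scheme.{u}} (s : X ⟶ P) (p : P ⟶ X) (hs : s ≫ p = 𝟙 X) (f : X ⟶ S)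
    [Flat (p ≫ f)] : Flat f := by
  refine Flat.of_stalkMap _ fun x => ?_
  have hx : p (s x) = x := by rw [← Scheme.Hom.comp_apply, hs]; rfl
  have hinv : IsIso (p.stalkMap (s x) ≫ s.stalkMap x) := by
    haveI : IsIso (s ≫ p) := hs ▸ inferInstance
    haveI : IsOpenImmersion (s ≫ p) := .of_isIso _
    have h : IsIso ((s ≫ p).stalkMap x) := inferInstance
    rw [Scheme.Hom.stalkMap_comp] at h
    exact h
  have h := Flat.stalkMap (p ≫ f) (s x)
  rw [Scheme.Hom.stalkMap_comp] at h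
  suffices hf : (f.stalkMap (p (s x))).hom.Flat by
    have key : ∀ (y : X), y = x → (f.stalkMap y).hom.Flat → (f.stalkMap x).hom.Flat := fun y e h => e ▸ h
    exact key _ hx hf
  let i := asIso (p.stalkMap (s x) ≫ s.stalkMap x)
  algebraize [(f.stalkMap (p (s x))).hom, (p.stalkMap (s x)).hom,
    ((p.stalkMap (s x)).hom.comp (f.stalkMap (p (s x))).hom)]
  have hflat : Module.Flat (S.presheaf.stalk (f (p (s x)))) (P.presheaf.stalk (s x)) := h
  let r : P.presheaf.stalk (s x) →ₗ[S.presheaf.stalk (f (p (s x)))] X.presheaf.stalk (p (s x)) :=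
    { toFun := fun y => (s.stalkMap x ≫ i.inv).hom y
      map_add' := map_add _
      map_smul' := fun a y => by
        simp only [Algebra.smul_def, map_mul, RingHom.id_apply]
        congr 1
        show (p.stalkMap (s x) ≫ s.stalkMap x ≫ i.inv).hom ((f.stalkMap (p (s x))).hom a) = _
        rw [← Category.assoc, show p.stalkMap (s x) ≫ s.stalkMap x = i.hom from rfl, i.hom_inv_id]
        rfl }
  refine Module.Flat.of_retract (IsScalarTower.toAlgHom _ _ (P.presheaf.stalk (s x))).toLinearMap r ?_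
  ext y
  show (p.stalkMap (s x) ≫ s.stalkMap x ≫ i.inv).hom y = y
  rw [← Category.assoc, show p.stalkMap (s x) ≫ s.stalkMap x = i.hom from rfl, i.hom_inv_id]
  rfl

end GrothLib.Misc6
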