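import Groth.Prelude.Def_FlatCA
import Mathlib.RingTheory.FiniteType
import Mathlib.RingTheory.AdicCompletion.Basic
import Mathlib.RingTheory.Jacobson.Ideal
import Mathlib.Algebra.DirectSum.Module
import Mathlib.LinearAlgebra.TensorProduct.RightExactness

/-!
# Associated primes of tensor products meet the closed fibre
-/

universe u

namespace GrothLib.Misc6

open TensorProduct

variable {R S : Type u} [CommRing R] [CommRing S] [Algebra R S] (N : Type u) [AddCommGroup N]
  [Module S N] [Module R N] [IsScalarTower R S N] (M : Type u) [AddCommGroup M] [Module R M]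

/-- If `q` is associated and `q + IS = ⊤` then some nonzero `x` is fixed by an element of `IS`. -/
theorem exists_fixed (I : Ideal R) (q : Ideal S) (hq : q ∈ FlatCA.ass S (N ⊗[R] M))
    (h : q ⊔ I.map (algebraMap R S) = ⊤) :
    ∃ x : N ⊗[R] M, x ≠ 0 ∧ ∃ e ∈ I.map (algebraMap R S),
      ((LinearMap.lsmul S N e).restrictScalars R).rTensor M x = x := by
  obtain ⟨hp, x, hx⟩ := hq
  refine ⟨x, ?_, ?_⟩
  · rintro rfl
    exact hp.ne_top (by rw [hx, Submodule.span_zero_singleton, Submodule.annihilator_bot])
  · obtain ⟨a, ha, e, he, hae⟩ := Submodule.mem_sup.mp ((Ideal.eq_top_iff_one _).mp h)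
    refine ⟨e, he, ?_⟩
    have hs : ∀ (c : S) (z : N ⊗[R] M), ((LinearMap.lsmul S N c).restrictScalars R).rTensor M z = c • z := by
      intro c z
      induction z using TensorProduct.induction_on with
      | zero => simp
      | add u v hu hv => rw [map_add, hu, hv, smul_add]
      | tmul n m => simp [TensorProduct.smul_tmul']
    rw [hx, Submodule.mem_annihilator_span_singleton] at ha
    rw [hs, show e = 1 - a from by rw [← hae]; ring, sub_smul, one_smul, ha, sub_zero]

theorem smul_mem_of_mem_map (I : Ideal R) {e : S} (he : e ∈ I.map (algebraMap R S)) (n : N) :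
    e • n ∈ I • (⊤ : Submodule R N) := by
  induction he using Submodule.span_induction generalizing n with
  | mem y hy =>
    obtain ⟨r, hr, rfl⟩ := hy
    rw [algebraMap_smul]
    exact Submodule.smul_mem_smul hr trivial
  | zero => simp
  | add a b _ _ ha hb => rw [add_smul]; exact add_mem (ha n) (hb n)
  | smul c a _ ha => rw [smul_eq_mul, mul_comm, mul_smul]; exact ha (c • n)

theorem eq_zero_of_fixed_isAdicComplete (I : Ideal R) [IsAdicComplete I N] {e : S}
    (he : e ∈ I.map (algebraMap R S)) {x : N ⊗[R] M}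
    (hx : ((LinearMap.lsmul S N e).restrictScalars R).rTensor M x = x) : x = 0 := by
  set φ : N →ₗ[R] N := (LinearMap.lsmul S N e).restrictScalars R with hφ
  have hpow : ∀ (k j : ℕ) (n : N), n ∈ (I ^ j • ⊤ : Submodule R N) → (φ^[k]) n ∈ (I ^ (k + j) • ⊤ : Submodule R N) := by
    intro k j n hn
    induction k with
    | zero => simpa using hn
    | succ k ih =>
      rw [Function.iterate_succ_apply', show k + 1 + j = (k + j) + 1 from by omega]
      refine Submodule.smul_induction_on ih (fun r hr m _ => ?_) fun a b ha hb => ?_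
      · rw [map_smul, pow_succ, mul_smul]
        exact Submodule.smul_mem_smul hr (smul_mem_of_mem_map N I he m)
      · rw [map_add]; exact add_mem ha hb
  have hpow0 : ∀ (k : ℕ) (n : N), (φ^[k]) n ∈ (I ^ k • ⊤ : Submodule R N) := fun k n =>
    hpow k 0 n (by simp)
  have hinj : Function.Injective ((LinearMap.id : N →ₗ[R] N) - φ) := by
    rw [injective_iff_map_eq_zero]
    intro n hn
    have hn' : φ n = n := (sub_eq_zero.mp hn).symm
    refine IsHausdorff.haus (I := I) inferInstance n fun k => ?_
    rw [SModEq.zero]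
    have := hpow0 k n
    rwa [Function.iterate_fixed hn' k] at this
  have hsurj : Function.Surjective ((LinearMap.id : N →ₗ[R] N) - φ) := by
    intro y
    let z : ℕ → N := fun k => ∑ j ∈ Finset.range k, (φ^[j]) y
    obtain ⟨L, hL⟩ := IsPrecomplete.prec (I := I) inferInstance (f := z) fun {m n} hmn => by
      rw [SModEq.sub_mem, show z m - z n = -(∑ j ∈ Finset.Ico m n, (φ^[j]) y) from by
        rw [Finset.sum_Ico_eq_sub _ hmn, neg_sub]]
      refine neg_mem (Submodule.sum_mem _ fun j hj => ?_)
      exact Submodule.smul_mono_left (Ideal.pow_le_pow_right (Finset.mem_Ico.mp hj).1) (hpow0 j y)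
    refine ⟨L, sub_eq_zero.mp (IsHausdorff.haus (I := I) inferInstance _ fun k => ?_)⟩
    rw [SModEq.zero]
    have h1 : ((LinearMap.id : N →ₗ[R] N) - φ) (z k) = y - (φ^[k]) y := by
      rw [map_sum]
      simp only [LinearMap.sub_apply, LinearMap.id_apply, ← Function.iterate_succ_apply' φ]
      rw [Finset.sum_range_sub']
      simp
    have h2 : ((LinearMap.id : N →ₗ[R] N) - φ) (L - z k) ∈ (I ^ k • ⊤ : Submodule R N) :=
      Submodule.smul_top_le_comap_smul_top (I ^ k) ((LinearMap.id : N →ₗ[R] N) - φ)
        (by rw [← SModEq.sub_mem]; exact (hL k).symm)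
    rw [map_sub, h1] at h2
    have := add_mem h2 (neg_mem (hpow0 k y))
    convert this using 1
    abel
  have hb : Function.Bijective (((LinearMap.id : N →ₗ[R] N) - φ).rTensor M) :=
    ((LinearEquiv.ofBijective _ ⟨hinj, hsurj⟩).rTensor M).bijective
  refine hb.1 ?_
  rw [map_zero, LinearMap.rTensor_sub, LinearMap.rTensor_id, LinearMap.sub_apply, LinearMap.id_apply, hx, sub_self]

theorem eq_zero_of_fixed_directSum [IsLocalRing R] {ι : Type u} [DecidableEq ι] (F : ι → Submodule R N)
    (hF : DirectSum.IsInternal F) (hfin : ∀ i, Module.Finite R (F i)) {e : S}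
    (he : e ∈ (IsLocalRing.maximalIdeal R).map (algebraMap R S)) {x : N ⊗[R] M}
    (hx : ((LinearMap.lsmul S N e).restrictScalars R).rTensor M x = x) : x = 0 := by
  classical
  set φ : N →ₗ[R] N := (LinearMap.lsmul S N e).restrictScalars R with hφ
  obtain ⟨l, hl⟩ := TensorProduct.exists_finset x
  let dec := (LinearEquiv.ofBijective (DirectSum.coeLinearMap F) hF).symm
  let s : Finset ι := l.biUnion fun p => (dec p.1).support
  let T := (∀ i : {i // i ∈ s}, F i.1)
  let inc : T →ₗ[R] N :=
    ∑ i : {i // i ∈ s}, (F i.1).subtype ∘ₗ LinearMap.proj i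
  let pr : N →ₗ[R] T :=
    LinearMap.pi fun i => DirectSum.component R ι (fun j => F j) i.1 ∘ₗ dec.toLinearMap
  haveI : Module.Finite R T := Module.Finite.pi
  have hmem : ∀ p ∈ l, inc (pr p.1) = p.1 := fun p hp => by
    have h1 : DirectSum.coeLinearMap F (dec p.1) = p.1 :=
      (LinearEquiv.ofBijective (DirectSum.coeLinearMap F) hF).apply_symm_apply p.1
    conv_rhs => rw [← h1]
    rw [DirectSum.coeLinearMap_eq_dfinsuppSum, DFinsupp.sum]
    simp only [inc, pr, LinearMap.coe_sum, Finset.sum_apply, LinearMap.coe_comp, Function.comp_apply,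
      Submodule.coe_subtype]
    show (∑ i : {i // i ∈ s}, ((DirectSum.component R ι (fun j => F j) i.1 (dec p.1)) : N)) = _
    rw [Finset.sum_coe_sort s fun i => ((DirectSum.component R ι (fun j => F j) i (dec p.1)) : N)]
    refine (Finset.sum_subset (fun i hi => Finset.mem_biUnion.mpr ⟨p, hp, hi⟩) fun i _ hi => ?_).symm
    have h0 : dec p.1 i = 0 := DFinsupp.notMem_support_iff.mp hi
    show ((dec p.1 i : F i) : N) = 0
    rw [h0]
    rfl
  have hxT : inc.rTensor M (pr.rTensor M x) = x := by
    rw [hl, map_sum, map_sum]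
    refine Finset.sum_congr rfl fun p hp => ?_
    rw [LinearMap.rTensor_tmul, LinearMap.rTensor_tmul, hmem p hp]
  set y := pr.rTensor M x
  let ψ : T →ₗ[R] T := pr ∘ₗ φ ∘ₗ inc
  have hy : ψ.rTensor M y = y := by
    rw [LinearMap.rTensor_comp_apply, LinearMap.rTensor_comp_apply, hxT, hx]
  have hψ : LinearMap.range ψ ≤ IsLocalRing.maximalIdeal R • ⊤ := by
    rintro _ ⟨t, rfl⟩
    exact Submodule.smul_top_le_comap_smul_top _ pr (smul_mem_of_mem_map N _ he (inc t))
  have hsurj : Function.Surjective ((LinearMap.id : T →ₗ[R] T) - ψ) := by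
    rw [← LinearMap.range_eq_top, eq_top_iff]
    refine Submodule.le_of_le_smul_of_le_jacobson_bot (I := IsLocalRing.maximalIdeal R) Module.Finite.fg_top
      (IsLocalRing.maximalIdeal_le_jacobson ⊥) ?_
    intro t _
    exact Submodule.mem_sup.mpr ⟨((LinearMap.id : T →ₗ[R] T) - ψ) t, LinearMap.mem_range_self _ t, ψ t, hψ ⟨t, rfl⟩, by simp⟩
  have hb : Function.Bijective (((LinearMap.id : T →ₗ[R] T) - ψ).rTensor M) :=
    ((LinearEquiv.ofBijective _ ⟨OrzechProperty.injective_of_surjective_endomorphism _ hsurj, hsurj⟩).rTensor M).bijective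
  have : y = 0 := hb.1 (by
    rw [map_zero, LinearMap.rTensor_sub, LinearMap.rTensor_id, LinearMap.sub_apply, LinearMap.id_apply, hy, sub_self])
  rw [← hxT, this, map_zero]

end GrothLib.Misc6
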