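import Groth.Agent.Lib.EtaPt.SN
import Groth.Agent.Lib.PerfUH.Ring
import Groth.Agent.Lib.Frob.Basic
import Mathlib.NumberTheory.Basic
import Mathlib.RingTheory.Spectrum.Prime.Homeomorph
import Mathlib.RingTheory.IntegralClosure.IsIntegralClosure.Basic

/-!
# Universal homeomorphisms which are isomorphisms away from a prime number
-/

universe u

open CategoryTheory AlgebraicGeometry

namespace GrothLib.Misc6

variable {A B : Type u} [CommRing A] [CommRing B] (φ : A →+* B)

theorem natCast_mem_range (p : ℕ) : (p : B) ∈ φ.range := ⟨(p : A), map_natCast φ p⟩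

theorem mem_range_div {K L : Type u} [Field K] [Field L] (μ : K →+* L) {x y : L} (hx : x ∈ μ.range)
    (hy : y ∈ μ.range) : x / y ∈ μ.range := by
  obtain ⟨x, rfl⟩ := hx
  obtain ⟨y, rfl⟩ := hy
  exact ⟨x / y, map_div₀ μ x y⟩

theorem residue_pow_mem (hU : UniversallyInjective (Spec.map (CommRingCat.ofHom φ))) (Q : PrimeSpectrum B)
    (p : ℕ) [ExpChar (PrimeSpectrum.comap φ Q).asIdeal.ResidueField p] (y : Q.asIdeal.ResidueField) :
    ∃ e : ℕ, y ^ p ^ e ∈ (Ideal.ResidueField.map (PrimeSpectrum.comap φ Q).asIdeal Q.asIdeal φ rfl).range := by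
  have hpi : ((Spec.map (CommRingCat.ofHom φ)).residueFieldMap Q).hom.IsPurelyInseparable :=
    ((tfae_universallyInjective (Spec.map (CommRingCat.ofHom φ))).out 0 2
      (a := UniversallyInjective (Spec.map (CommRingCat.ofHom φ)))
      (b := Function.Injective (Spec.map (CommRingCat.ofHom φ)) ∧
        ∀ x, ((Spec.map (CommRingCat.ofHom φ)).residueFieldMap x).hom.IsPurelyInseparable) rfl rfl).mp hU |>.2 Q
  let eA := Scheme.Spec.residueFieldIso (.of A) (PrimeSpectrum.comap φ Q)
  let eB := Scheme.Spec.residueFieldIso (.of B) Q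
  have key : ∀ z, Ideal.ResidueField.map (PrimeSpectrum.comap φ Q).asIdeal Q.asIdeal φ rfl (eA.hom.hom z) =
      eB.hom.hom (((Spec.map (CommRingCat.ofHom φ)).residueFieldMap Q).hom z) := fun z => by
    have h' := GrothLib.EtaPt.residueFieldMap_spec φ Q
    rw [Iso.inv_comp_eq] at h'
    have e2 := congrArg eB.hom.hom congr($(h').hom z)
    refine Eq.trans ?_ e2.symm
    exact (congr($(eB.inv_hom_id).hom _)).symm
  algebraize [((Spec.map (CommRingCat.ofHom φ)).residueFieldMap Q).hom]
  haveI : ExpChar ((Spec (CommRingCat.of A)).residueField ((Spec.map (CommRingCat.ofHom φ)) Q)) p :=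
    expChar_of_injective_ringHom (f := eA.inv.hom) eA.inv.hom.injective p
  obtain ⟨e, z, hz⟩ := IsPurelyInseparable.pow_mem
    ((Spec (CommRingCat.of A)).residueField ((Spec.map (CommRingCat.ofHom φ)) Q)) p (eB.inv.hom y)
  refine ⟨e, eA.hom.hom z, ?_⟩
  rw [key]
  refine (congrArg eB.hom.hom hz).trans ?_
  rw [map_pow]
  exact congrArg (· ^ p ^ e) (congr($(eB.inv_hom_id).hom y))

theorem exists_cleared (hU : UniversallyInjective (Spec.map (CommRingCat.ofHom φ))) (Q : PrimeSpectrum B)
    (p : ℕ) [Fact p.Prime] (hpQ : φ p ∈ Q.asIdeal) (x : B) :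
    ∃ (e : ℕ) (a s : A), φ s ∉ Q.asIdeal ∧ φ s * x ^ p ^ e - φ a ∈ Q.asIdeal := by
  let P := (PrimeSpectrum.comap φ Q).asIdeal
  haveI : CharP P.ResidueField p := by
    obtain ⟨q, hq⟩ := CharP.exists P.ResidueField
    have h0 : ((p : ℕ) : P.ResidueField) = 0 := by
      rw [← map_natCast (algebraMap A P.ResidueField), Ideal.algebraMap_residueField_eq_zero]
      exact hpQ
    rcases (Nat.dvd_prime (Fact.out : p.Prime)).mp ((CharP.cast_eq_zero_iff _ q p).mp h0) with h | h
    · subst h
      exact absurd hq (fun h => CharP.false_of_nontrivial_of_char_one (R := P.ResidueField))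
    · exact h ▸ hq
  haveI : ExpChar P.ResidueField p := .prime (Fact.out : p.Prime)
  obtain ⟨e, z, hz⟩ := residue_pow_mem φ hU Q p (algebraMap B Q.asIdeal.ResidueField x)
  obtain ⟨a', s', hs', rfl⟩ := IsFractionRing.div_surjective (A := A ⧸ P) z
  obtain ⟨a, rfl⟩ := Ideal.Quotient.mk_surjective a'
  obtain ⟨s, rfl⟩ := Ideal.Quotient.mk_surjective s'
  have hs : φ s ∉ Q.asIdeal := fun h => nonZeroDivisors.ne_zero hs' (Ideal.Quotient.eq_zero_iff_mem.mpr h)
  refine ⟨e, a, s, hs, ?_⟩
  rw [← Ideal.algebraMap_residueField_eq_zero (I := Q.asIdeal), map_sub, map_mul, map_pow, ← hz, map_div₀]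
  have hq : ∀ c : A, Ideal.ResidueField.map P Q.asIdeal φ rfl
      (algebraMap (A ⧸ P) P.ResidueField (Ideal.Quotient.mk P c)) = algebraMap B Q.asIdeal.ResidueField (φ c) :=
    fun c => Ideal.ResidueField.map_algebraMap _ _ φ rfl c
  rw [hq, hq, mul_div_cancel₀ _ (fun h => hs (Ideal.algebraMap_residueField_eq_zero.mp h)), sub_self]

theorem exists_pow_mul_mem_range {p : ℕ} (h : Function.Bijective (Localization.awayMap φ (p : A))) (b : B) :
    ∃ n : ℕ, (p ^ n : B) * b ∈ φ.range := by
  obtain ⟨z, hz⟩ := h.2 (algebraMap B _ b)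
  obtain ⟨m, a, ha⟩ := IsLocalization.Away.surj (p : A) z
  have h1 := congrArg (Localization.awayMap φ (p : A)) ha
  have haw : ∀ c, Localization.awayMap φ (p : A) (algebraMap A _ c) = algebraMap B _ (φ c) :=
    fun c => IsLocalization.map_eq (M := Submonoid.powers (p : A)) (T := Submonoid.powers (φ (p : A)))
      (by rintro _ ⟨i, rfl⟩; exact ⟨i, (map_pow φ _ i).symm⟩) c
  rw [map_mul, map_pow, hz, haw, haw, ← map_pow, ← map_mul] at h1
  obtain ⟨⟨_, k, rfl⟩, hk⟩ := (IsLocalization.eq_iff_exists (.powers (φ (p : A))) _).mp h1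
  refine ⟨k + m, (p : A) ^ k * a, ?_⟩
  have hk' : (p : B) ^ k * (b * (p : B) ^ m) = (p : B) ^ k * φ a := by simpa using hk
  rw [map_mul, map_pow, map_natCast, ← hk', pow_add]
  ring

theorem ker_nilpotent_and_pow_mem {p : ℕ} [Fact p.Prime] (h : Function.Bijective (Localization.awayMap φ (p : A)))
    (hu : FlatMor.IsUnivHomeo (Spec.map (CommRingCat.ofHom φ))) :
    (∀ a ∈ RingHom.ker φ, IsNilpotent a) ∧
      ∀ b : B, ∃ n : ℕ, (p ^ n : B) * b ∈ φ.range ∧ b ^ (p ^ n) ∈ φ.range := by
  obtain ⟨hint, hbij⟩ := GrothLib.EtaPt.of_isUnivHomeo φ hu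
  have hU := GrothLib.Frob.universallyInjective_of _ hu
  refine ⟨fun a ha => mem_nilradical.mp ?_, fun b => ?_⟩
  · rw [nilradical_eq_sInf]
    refine Ideal.mem_sInf.mpr fun P hP => ?_
    obtain ⟨Q, hQ⟩ := hbij.2 ⟨P, hP⟩
    have hPQ : P = Q.asIdeal.comap φ := (congrArg PrimeSpectrum.asIdeal hQ).symm
    rw [hPQ, Ideal.mem_comap, RingHom.mem_ker.mp ha]
    exact Q.asIdeal.zero_mem
  suffices ∃ n, b ^ p ^ n ∈ φ.range by
    obtain ⟨n, hn⟩ := this
    obtain ⟨m, hm⟩ := exists_pow_mul_mem_range φ h b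
    refine ⟨n + m, ?_, ?_⟩
    · rw [pow_add, mul_assoc]
      exact mul_mem (pow_mem (natCast_mem_range φ p) n) hm
    · rw [pow_add, pow_mul]
      exact pow_mem hn _
  -- reduce modulo `p`
  obtain ⟨n, a, y, hy⟩ : ∃ (n : ℕ) (a : A) (y : B), b ^ p ^ n = φ a + (p : B) * y := by
    by_cases htop : Ideal.span {(p : B)} = ⊤
    · obtain ⟨c, hc⟩ := Ideal.mem_span_singleton'.mp ((Ideal.eq_top_iff_one _).mp htop)
      exact ⟨0, 0, c * b, by rw [map_zero, zero_add, ← mul_assoc, mul_comm (p : B), hc, one_mul, pow_zero, pow_one]⟩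
    let J := Ideal.span {(p : B)}
    letI : Algebra A (B ⧸ J) := ((Ideal.Quotient.mk J).comp φ).toAlgebra
    haveI : Nontrivial (B ⧸ J) := Ideal.Quotient.nontrivial_iff.mpr htop
    haveI : CharP (B ⧸ J) p := by
      obtain ⟨q, hq⟩ := CharP.exists (B ⧸ J)
      have h0 : ((p : ℕ) : B ⧸ J) = 0 := by
        rw [← map_natCast (Ideal.Quotient.mk J), Ideal.Quotient.eq_zero_iff_mem]
        exact Ideal.mem_span_singleton_self _
      rcases (Nat.dvd_prime (Fact.out : p.Prime)).mp ((CharP.cast_eq_zero_iff _ q p).mp h0) with h | h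
      · subst h
        exact absurd hq (fun h => CharP.false_of_nontrivial_of_char_one (R := B ⧸ J))
      · exact h ▸ hq
    haveI : ExpChar (B ⧸ J) p := .prime (Fact.out : p.Prime)
    haveI : Algebra.IsIntegral A (B ⧸ J) :=
      ⟨RingHom.IsIntegral.trans φ _ hint ((Ideal.Quotient.mk J).isIntegral_of_surjective Ideal.Quotient.mk_surjective)⟩
    obtain ⟨n, a, ha⟩ := GrothLib.PerfUH.exists_pow_mem (A := A) (B := B ⧸ J) p
      (fun Q Q' hQ hQ' e => Ideal.comap_injective_of_surjective _ Ideal.Quotient.mk_surjective (by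
        haveI := hQ.comap (Ideal.Quotient.mk J)
        haveI := hQ'.comap (Ideal.Quotient.mk J)
        exact congrArg PrimeSpectrum.asIdeal (@hbij.1 ⟨Q.comap (Ideal.Quotient.mk J), inferInstance⟩
          ⟨Q'.comap (Ideal.Quotient.mk J), inferInstance⟩ (PrimeSpectrum.ext (by
            show Ideal.comap φ (Q.comap _) = Ideal.comap φ (Q'.comap _)
            rw [Ideal.comap_comap, Ideal.comap_comap]
            exact e)))))
      (fun Q hQ x => by
        obtain ⟨x, rfl⟩ := Ideal.Quotient.mk_surjective x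
        have hpQ : φ p ∈ Q.comap (Ideal.Quotient.mk J) := by
          rw [map_natCast, Ideal.mem_comap, Ideal.Quotient.eq_zero_iff_mem.mpr (Ideal.mem_span_singleton_self _)]
          exact Q.zero_mem
        obtain ⟨e, a, s, hs, hm⟩ := exists_cleared φ hU ⟨Q.comap (Ideal.Quotient.mk J), hQ.comap _⟩ p hpQ x
        refine ⟨e, a, s, hs, ?_⟩
        have := Ideal.mem_comap.mp hm
        rw [map_sub, map_mul, map_pow] at this
        exact this)
      (Ideal.Quotient.mk J b)
    have ha' : b ^ p ^ n - φ a ∈ J := by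
      rw [← Ideal.Quotient.mk_eq_mk_iff_sub_mem, map_pow]
      exact ha.symm
    obtain ⟨y, hy⟩ := Ideal.mem_span_singleton'.mp ha'
    exact ⟨n, a, y, by linear_combination -hy⟩
  letI := φ.toAlgebra
  haveI : Algebra.IsIntegral A B := ⟨hint⟩
  let S := Algebra.adjoin A ({y} : Set B)
  obtain ⟨G, hG⟩ := (Algebra.IsIntegral.isIntegral (R := A) y).fg_adjoin_singleton
  choose m hm using fun g : B => exists_pow_mul_mem_range φ h g
  let N := G.sup m
  have hN : ∀ c ∈ Subalgebra.toSubmodule S, (p : B) ^ N * c ∈ φ.range := fun c hc => by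
    rw [← hG] at hc
    induction hc using Submodule.span_induction with
    | mem g hg =>
      obtain ⟨j, hj⟩ := Nat.exists_eq_add_of_le (Finset.le_sup (f := m) hg)
      rw [show N = m g + j from hj, pow_add, mul_comm _ ((p : B) ^ j), mul_assoc]
      exact mul_mem (pow_mem (natCast_mem_range φ p) j) (hm g)
    | zero => rw [mul_zero]; exact zero_mem _
    | add u v _ _ hu hv => rw [mul_add]; exact add_mem hu hv
    | smul r u _ hu => rw [Algebra.smul_def, mul_left_comm]; exact mul_mem ⟨r, rfl⟩ hu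
  let yS : S := ⟨y, Algebra.self_mem_adjoin_singleton A y⟩
  obtain ⟨c, hc⟩ := dvd_sub_pow_of_dvd_sub (R := S) (p := p) (a := algebraMap A S a + (p : S) * yS)
    (b := algebraMap A S a) ⟨yS, by ring⟩ N
  have hc' : (φ a + (p : B) * y) ^ p ^ N - φ a ^ p ^ N = (p : B) ^ (N + 1) * (c : B) := by
    simpa [yS, RingHom.algebraMap_toAlgebra] using congrArg Subtype.val hc
  refine ⟨n + N, ?_⟩
  rw [pow_add, pow_mul, hy, show (φ a + (p : B) * y) ^ p ^ N = φ a ^ p ^ N + (p : B) * ((p : B) ^ N * (c : B)) by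
    linear_combination hc']
  exact add_mem (pow_mem (show φ a ∈ φ.range from ⟨a, rfl⟩) _) (mul_mem (natCast_mem_range φ p) (hN c c.2))

theorem isUnivHomeo_of_pow_mem {p : ℕ} [Fact p.Prime] (hker : ∀ a ∈ RingHom.ker φ, IsNilpotent a)
    (hb : ∀ b : B, ∃ n : ℕ, (p ^ n : B) * b ∈ φ.range ∧ b ^ (p ^ n) ∈ φ.range) :
    FlatMor.IsUnivHomeo (Spec.map (CommRingCat.ofHom φ)) := by
  have hpos : 0 < p := (Fact.out : p.Prime).pos
  have hhom := PrimeSpectrum.isHomeomorph_comap φ (fun x => ⟨_, pow_pos hpos _, (hb x).choose_spec.2⟩)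
    (fun a ha => mem_nilradical.mpr (hker a ha))
  haveI : Surjective (Spec.map (CommRingCat.ofHom φ)) := ⟨hhom.surjective⟩
  haveI : IsIntegralHom (Spec.map (CommRingCat.ofHom φ)) := IsIntegralHom.SpecMap_iff.mpr (fun x => by
    obtain ⟨n, -, a, ha⟩ := hb x
    letI := φ.toAlgebra
    exact IsIntegral.of_pow (pow_pos hpos n) (ha ▸ (isIntegral_algebraMap : IsIntegral A (algebraMap A B a))))
  haveI : UniversallyInjective (Spec.map (CommRingCat.ofHom φ)) := by
    refine ((tfae_universallyInjective (Spec.map (CommRingCat.ofHom φ))).out 0 2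
      (a := UniversallyInjective (Spec.map (CommRingCat.ofHom φ)))
      (b := Function.Injective (Spec.map (CommRingCat.ofHom φ)) ∧
        ∀ x, ((Spec.map (CommRingCat.ofHom φ)).residueFieldMap x).hom.IsPurelyInseparable) rfl rfl).mpr
      ⟨hhom.injective, fun Q => ?_⟩
    let P := (PrimeSpectrum.comap φ Q).asIdeal
    let eA := Scheme.Spec.residueFieldIso (.of A) (PrimeSpectrum.comap φ Q)
    let eB := Scheme.Spec.residueFieldIso (.of B) Q
    let μ := Ideal.ResidueField.map P Q.asIdeal φ rfl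
    have key : ∀ w, ((Spec.map (CommRingCat.ofHom φ)).residueFieldMap Q).hom (eA.inv.hom w) = eB.inv.hom (μ w) :=
      fun w => congr($(GrothLib.EtaPt.residueFieldMap_spec φ Q).hom w)
    algebraize [((Spec.map (CommRingCat.ofHom φ)).residueFieldMap Q).hom]
    have hmain : ∀ (q : ℕ), (φ p ∈ Q.asIdeal → q = p) → ∀ y : Q.asIdeal.ResidueField, ∃ e : ℕ, y ^ q ^ e ∈ μ.range := by
      intro q hq y
      obtain ⟨b', s', hs', rfl⟩ := IsFractionRing.div_surjective (A := B ⧸ Q.asIdeal) y
      obtain ⟨b, rfl⟩ := Ideal.Quotient.mk_surjective b'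
      obtain ⟨s, rfl⟩ := Ideal.Quotient.mk_surjective s'
      have hμ : ∀ c : A, μ (algebraMap A P.ResidueField c) = algebraMap B Q.asIdeal.ResidueField (φ c) :=
        fun c => Ideal.ResidueField.map_algebraMap _ _ φ rfl c
      have hmem : ∀ c : B, c ∈ φ.range → algebraMap B Q.asIdeal.ResidueField c ∈ μ.range := fun c ⟨a, ha⟩ =>
        ⟨_, (hμ a).trans (congrArg _ ha)⟩
      show ∃ e : ℕ, (algebraMap B Q.asIdeal.ResidueField b / algebraMap B Q.asIdeal.ResidueField s) ^ q ^ e ∈ μ.range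
      obtain ⟨n, hn, hn'⟩ := hb b
      obtain ⟨m, hm, hm'⟩ := hb s
      by_cases hpQ : φ p ∈ Q.asIdeal
      · rw [hq hpQ]
        refine ⟨n + m, ?_⟩
        rw [div_pow, ← map_pow, ← map_pow]
        refine mem_range_div μ (hmem _ ?_) (hmem _ ?_)
        · rw [pow_add, pow_mul]; exact pow_mem hn' _
        · rw [add_comm, pow_add, pow_mul]; exact pow_mem hm' _
      · refine ⟨0, ?_⟩
        rw [pow_zero, pow_one]
        have hp0 : algebraMap B Q.asIdeal.ResidueField (p : B) ≠ 0 := fun h0 => hpQ (by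
          rw [map_natCast]; exact Ideal.algebraMap_residueField_eq_zero.mp h0)
        have hrec : ∀ (c : B) (k : ℕ), (p ^ k : B) * c ∈ φ.range → algebraMap B Q.asIdeal.ResidueField c ∈ μ.range := by
          intro c k hk
          have h2 := mem_range_div μ (hmem _ hk) (hmem _ (pow_mem (natCast_mem_range φ p) k))
          rwa [map_mul, mul_comm, mul_div_assoc, div_self (by rw [map_pow]; exact pow_ne_zero _ hp0), mul_one] at h2
        exact mem_range_div μ (hrec b n hn) (hrec s m hm)
    let K := (Spec (CommRingCat.of A)).residueField ((Spec.map (CommRingCat.ofHom φ)) Q)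
    show IsPurelyInseparable K ((Spec (CommRingCat.of B)).residueField Q)
    refine (isPurelyInseparable_iff_pow_mem K (ringExpChar K)).mpr fun y => ?_
    obtain ⟨e, w, hw⟩ := hmain (ringExpChar K) (fun hpQ => by
      have h0 : ((p : ℕ) : K) = 0 := by
        have : (p : P.ResidueField) = 0 := by
          rw [← map_natCast (algebraMap A P.ResidueField), Ideal.algebraMap_residueField_eq_zero]; exact hpQ
        have h1 := congrArg eA.inv.hom this
        rwa [map_natCast, map_zero] at h1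
      haveI : CharP K p := by
        obtain ⟨q, hq⟩ := CharP.exists K
        rcases (Nat.dvd_prime (Fact.out : p.Prime)).mp ((CharP.cast_eq_zero_iff _ q p).mp h0) with h | h
        · subst h
          exact absurd hq (fun h => CharP.false_of_nontrivial_of_char_one (R := K))
        · exact h ▸ hq
      haveI : ExpChar K p := .prime (Fact.out : p.Prime)
      exact ringExpChar.eq K p) (eB.hom.hom y)
    refine ⟨e, eA.inv.hom w, ?_⟩
    refine (key w).trans ?_
    rw [hw, map_pow]
    exact congrArg (· ^ (ringExpChar K) ^ e) (congr($(eB.hom_inv_id).hom y))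
  exact GrothLib.Frob.isUnivHomeo_of _

end GrothLib.Misc6
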