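import Mathlib.RingTheory.Localization.AtPrime.Basic
import Mathlib.RingTheory.Localization.Integral
import Mathlib.RingTheory.Polynomial.ScaleRoots
import Mathlib.RingTheory.IntegralClosure.IntegrallyClosed
import Mathlib.RingTheory.Valuation.ValuationRing

/-!
# Localizations of products at primes
-/

universe u

namespace GrothLib.Misc6

variable {ι : Type u} (R : ι → Type u) [∀ i, CommRing (R i)] [∀ i, IsDomain (R i)]

open Classical in
/-- The idempotent of a subset. -/
noncomputable def ind (T : Set ι) : ∀ i, R i := fun i => if i ∈ T then 1 else 0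

variable {R} (P : Ideal (∀ i, R i)) [P.IsPrime]

theorem ind_or (T : Set ι) : ind R T ∉ P ∨ ind R Tᶜ ∉ P := by
  rw [← not_and_or]
  rintro ⟨h1, h2⟩
  refine (Ideal.IsPrime.ne_top ‹P.IsPrime›) ((Ideal.eq_top_iff_one P).mpr ?_)
  convert P.add_mem h1 h2 using 1
  funext i
  by_cases hi : i ∈ T <;> simp [ind, hi]

theorem ind_ne_zero {w : ∀ i, R i} (hw : w ∉ P) : ind R {i | w i ≠ 0} ∉ P := fun h => hw (by
  convert P.mul_mem_left w h using 1
  funext i
  by_cases hi : w i = 0 <;> simp [ind, hi])

theorem algebraMap_eq_zero_iff (a : ∀ i, R i) :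
    algebraMap _ (Localization.AtPrime P) a = 0 ↔ ind R {i | a i = 0} ∉ P := by
  rw [IsLocalization.map_eq_zero_iff P.primeCompl]
  constructor
  · rintro ⟨⟨c, hc⟩, hca⟩ h
    refine hc ?_
    show c ∈ P
    convert P.mul_mem_left c h using 1
    funext i
    have := congrFun hca i
    by_cases hi : a i = 0
    · simp [ind, hi]
    · simp only [Pi.mul_apply, Pi.zero_apply, mul_eq_zero, hi, or_false] at this
      simp [ind, this]
  · intro h
    refine ⟨⟨_, h⟩, ?_⟩
    funext i
    by_cases hi : a i = 0 <;> simp [ind, hi]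

theorem algebraMap_eq_of_eqOn {a b : ∀ i, R i} {T : Set ι} (hT : ind R T ∉ P) (h : ∀ i ∈ T, a i = b i) :
    algebraMap _ (Localization.AtPrime P) a = algebraMap _ (Localization.AtPrime P) b :=
  (IsLocalization.eq_iff_exists P.primeCompl _).mpr ⟨⟨_, hT⟩, funext fun i => by
    by_cases hi : i ∈ T
    · simp [ind, hi, h i hi]
    · simp [ind, hi]⟩

theorem isDomain_pi_localization : IsDomain (Localization.AtPrime P) := by
  have : NoZeroDivisors (Localization.AtPrime P) := ⟨fun {x y} hxy => by
    obtain ⟨a, s, rfl⟩ := IsLocalization.exists_mk'_eq P.primeCompl x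
    obtain ⟨b, t, rfl⟩ := IsLocalization.exists_mk'_eq P.primeCompl y
    rw [← IsLocalization.mk'_mul, IsLocalization.mk'_eq_zero_iff] at hxy
    obtain ⟨c, hc⟩ := hxy
    have hz : ∀ d : ∀ i, R i, algebraMap _ (Localization.AtPrime P) d = 0 →
        ∀ v : P.primeCompl, IsLocalization.mk' (Localization.AtPrime P) d v = 0 := fun d hd v => by
      rw [IsLocalization.mk'_eq_mul_mk'_one, hd, zero_mul]
    rcases ind_or P {i | a i = 0} with h | h
    · exact Or.inl (hz a ((algebraMap_eq_zero_iff P a).mpr h) s)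
    · refine Or.inr (hz b ?_ t)
      rw [← map_zero (algebraMap (∀ i, R i) (Localization.AtPrime P))]
      refine algebraMap_eq_of_eqOn P (T := {i | (c : ∀ i, R i) i ≠ 0} ∩ {i | a i = 0}ᶜ) ?_ fun i hi => ?_
      · intro hmem
        refine (Ideal.IsPrime.mul_notMem ‹_› (ind_ne_zero P c.2) h) ?_
        convert hmem using 1
        funext i
        by_cases h1 : (c : ∀ i, R i) i = 0 <;> by_cases h2 : a i = 0 <;> simp [ind, h1, h2]
      · have := congrFun hc i
        simp only [Pi.mul_apply, Pi.zero_apply, mul_eq_zero] at this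
        exact (this.resolve_left hi.1).resolve_left hi.2⟩
  exact NoZeroDivisors.to_isDomain _

theorem preValuationRing_pi_localization [∀ i, ValuationRing (R i)] : PreValuationRing (Localization.AtPrime P) := by
  classical
  refine ⟨fun x y => ?_⟩
  obtain ⟨a, s, rfl⟩ := IsLocalization.exists_mk'_eq P.primeCompl x
  obtain ⟨b, t, rfl⟩ := IsLocalization.exists_mk'_eq P.primeCompl y
  have main : ∀ (a b : ∀ i, R i) (s t : P.primeCompl), ind R {i | a i ∣ b i} ∉ P →
      ∃ c, IsLocalization.mk' (Localization.AtPrime P) a s * c = IsLocalization.mk' _ b t := by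
    intro a b s t h
    let d : ∀ i, R i := fun i => if hd : a i ∣ b i then hd.choose else 0
    refine ⟨IsLocalization.mk' _ (d * s) t, ?_⟩
    rw [← IsLocalization.mk'_mul, IsLocalization.mk'_eq_iff_eq, Submonoid.coe_mul]
    refine algebraMap_eq_of_eqOn P h fun i hi => ?_
    simp only [Pi.mul_apply, d, dif_pos (show a i ∣ b i from hi)]
    conv_rhs => rw [(show a i ∣ b i from hi).choose_spec]
    ring
  rcases ind_or P {i | a i ∣ b i} with h | h
  · obtain ⟨c, hc⟩ := main a b s t h
    exact ⟨c, Or.inl hc⟩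
  · obtain ⟨c, hc⟩ := main b a t s (fun hmem => h (by
      convert P.mul_mem_left (ind R {i | a i ∣ b i}ᶜ) hmem using 1
      funext i
      by_cases hi : a i ∣ b i
      · simp [ind, hi]
      · simp [ind, hi, (ValuationRing.dvd_total (a i) (b i)).resolve_left hi]))
    exact ⟨c, Or.inr hc⟩

theorem isIntegrallyClosed_pi_localization [∀ i, IsIntegrallyClosed (R i)] :
    IsIntegrallyClosed (Localization.AtPrime P) := by
  classical
  haveI := isDomain_pi_localization P
  let L := Localization.AtPrime P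
  let K := FractionRing L
  let φ := algebraMap (∀ i, R i) K
  rw [isIntegrallyClosed_iff K]
  intro x hx
  obtain ⟨s, hs⟩ := hx.exists_multiple_integral_of_isLocalization P.primeCompl
  obtain ⟨p, hp, hpx⟩ := hs
  obtain ⟨a, b, hb, hab⟩ : ∃ a b, algebraMap _ L b ≠ 0 ∧ φ b * (s • x) = φ a := by
    obtain ⟨u, v, hv, huv⟩ := IsFractionRing.div_surjective (A := L) (s • x)
    obtain ⟨⟨a₁, s₁⟩, h₁⟩ := IsLocalization.surj P.primeCompl u
    obtain ⟨⟨b₁, s₂⟩, h₂⟩ := IsLocalization.surj P.primeCompl v
    refine ⟨a₁ * (s₂ : ∀ i, R i), b₁ * (s₁ : ∀ i, R i), ?_, ?_⟩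
    · rw [map_mul, ← h₂]
      exact mul_ne_zero (mul_ne_zero (nonZeroDivisors.ne_zero hv) (IsLocalization.map_units L s₂).ne_zero)
        (IsLocalization.map_units L s₁).ne_zero
    · have hv0 : algebraMap L K v ≠ 0 := fun h => nonZeroDivisors.ne_zero hv
        (IsFractionRing.injective L K (h.trans (map_zero _).symm))
      simp only [φ, IsScalarTower.algebraMap_apply (∀ i, R i) L K, map_mul, ← h₁, ← h₂, ← huv]
      calc _ = algebraMap L K u * algebraMap L K (algebraMap _ L (s₁ : ∀ i, R i)) *
            algebraMap L K (algebraMap _ L (s₂ : ∀ i, R i)) * (algebraMap L K v * (algebraMap L K v)⁻¹) := by ring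
        _ = _ := by rw [mul_inv_cancel₀ hv0, mul_one]
  have h0 := Polynomial.scaleRoots_eval₂_eq_zero φ (s := b) hpx
  rw [hab, Polynomial.eval₂_at_apply] at h0
  simp only [φ, IsScalarTower.algebraMap_apply (∀ i, R i) L K] at h0
  have hL : algebraMap _ L ((p.scaleRoots b).eval a) = 0 := IsFractionRing.injective L K (h0.trans (map_zero _).symm)
  obtain ⟨w, hw⟩ := (IsLocalization.map_eq_zero_iff P.primeCompl L _).mp hL
  let T := {i | (w : ∀ i, R i) i ≠ 0} ∩ {i | b i ≠ 0}
  have hbT : ind R {i | b i ≠ 0} ∉ P := (ind_or P {i | b i = 0}).resolve_left fun h =>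
    hb ((algebraMap_eq_zero_iff P b).mpr h)
  have hT : ind R T ∉ P := fun hmem => Ideal.IsPrime.mul_notMem ‹_› (ind_ne_zero P w.2) hbT (by
    convert hmem using 1
    funext i
    by_cases h1 : (w : ∀ i, R i) i = 0 <;> by_cases h2 : b i = 0 <;> simp [ind, T, h1, h2])
  have key : ∀ i ∈ T, b i ∣ a i := fun i hi => by
    let e := Pi.evalRingHom R i
    have h1 : (p.scaleRoots b).eval a i = 0 := by
      have := congrFun hw i
      simp only [Pi.mul_apply, Pi.zero_apply, mul_eq_zero] at this
      exact this.resolve_left hi.1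
    have h2 : ((p.map e).scaleRoots (b i)).eval (a i) = 0 := by
      rw [show b i = e b from rfl, ← Polynomial.map_scaleRoots p b e (by rw [hp.leadingCoeff, map_one]; exact one_ne_zero),
        show a i = e a from rfl, Polynomial.eval_map_apply]
      exact h1
    let Ki := FractionRing (R i)
    let g := algebraMap (R i) Ki
    have hgb : g (b i) ≠ 0 := fun h => hi.2 (IsFractionRing.injective (R i) Ki (h.trans (map_zero _).symm))
    have h3 : Polynomial.eval₂ g (g (b i) * (g (a i) / g (b i))) ((p.map e).scaleRoots (b i)) = 0 := by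
      rw [mul_div_cancel₀ _ hgb, Polynomial.eval₂_at_apply, h2, map_zero]
    rw [Polynomial.scaleRoots_eval₂_mul, mul_eq_zero] at h3
    have hint : IsIntegral (R i) (g (a i) / g (b i)) :=
      ⟨p.map e, hp.map _, h3.resolve_left (pow_ne_zero _ hgb)⟩
    obtain ⟨y, hy⟩ := (isIntegrallyClosed_iff Ki).mp inferInstance hint
    refine ⟨y, IsFractionRing.injective (R i) Ki ?_⟩
    rw [map_mul, hy, mul_div_cancel₀ _ hgb]
  let y : ∀ i, R i := fun i => if hi : b i ∣ a i then hi.choose else 0
  have hby : algebraMap _ L (b * y) = algebraMap _ L a := algebraMap_eq_of_eqOn P hT fun i hi => by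
    simp only [Pi.mul_apply, y, dif_pos (key i hi)]
    exact (key i hi).choose_spec.symm
  refine ⟨IsLocalization.mk' L y s, ?_⟩
  have hbK : φ b ≠ 0 := fun h => hb (IsFractionRing.injective L K
    ((IsScalarTower.algebraMap_apply (∀ i, R i) L K b).symm.trans (h.trans (map_zero _).symm)))
  have hsy : (s • x : K) = φ y := mul_left_cancel₀ hbK (by
    rw [hab]
    simp only [φ, IsScalarTower.algebraMap_apply (∀ i, R i) L K, ← map_mul]
    rw [← hby, map_mul])
  have hsK : φ s ≠ 0 := by
    simp only [φ, IsScalarTower.algebraMap_apply (∀ i, R i) L K]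
    exact ((IsLocalization.map_units L s).map _).ne_zero
  refine mul_left_cancel₀ hsK ?_
  rw [Submonoid.smul_def, Algebra.smul_def] at hsy
  rw [hsy]
  simp only [φ, IsScalarTower.algebraMap_apply (∀ i, R i) L K]
  exact (map_mul _ _ _).symm.trans (congrArg _ (IsLocalization.mk'_spec' L y s))

end GrothLib.Misc6
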