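import Mathlib.LinearAlgebra.SymmetricAlgebra.Basic
import Mathlib.RingTheory.Kaehler.Basic
import Mathlib.Algebra.TrivSqZeroExt.Basic

/-!
# Differentials of a symmetric algebra
-/

universe u

namespace GrothLib.Misc6

open TensorProduct

variable (A : Type u) [CommRing A] (M : Type u) [AddCommGroup M] [Module A M]

/-- The candidate map `C ⊗ M → Ω_{C/A}`. -/
noncomputable abbrev symToKaehler : SymmetricAlgebra A M ⊗[A] M →ₗ[SymmetricAlgebra A M] Ω[SymmetricAlgebra A M⁄A] :=
  LinearMap.liftBaseChange (SymmetricAlgebra A M)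
    ((KaehlerDifferential.D A (SymmetricAlgebra A M)).toLinearMap.restrictScalars A ∘ₗ SymmetricAlgebra.ι A M)

theorem bijective_symToKaehler : Function.Bijective (symToKaehler A M) := by
  haveI : IsCentralScalar (SymmetricAlgebra A M) (SymmetricAlgebra A M ⊗[A] M) := ⟨fun c n => by
    induction n using TensorProduct.induction_on with
    | zero => simp
    | add x y hx hy => rw [smul_add, smul_add, hx, hy]
    | tmul x m => simp [TensorProduct.smul_tmul', mul_comm]⟩
  let ψ : (SymmetricAlgebra A M) →ₐ[A] TrivSqZeroExt (SymmetricAlgebra A M) (SymmetricAlgebra A M ⊗[A] M) := SymmetricAlgebra.lift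
    { toFun := fun m => TrivSqZeroExt.inl (SymmetricAlgebra.ι A M m) + TrivSqZeroExt.inr ((1 : (SymmetricAlgebra A M)) ⊗ₜ[A] m)
      map_add' := fun a b => by ext <;> simp [TensorProduct.tmul_add]
      map_smul' := fun r a => by ext <;> simp }
  have hι : ∀ m, ψ (SymmetricAlgebra.ι A M m) =
      TrivSqZeroExt.inl (SymmetricAlgebra.ι A M m) + TrivSqZeroExt.inr ((1 : (SymmetricAlgebra A M)) ⊗ₜ[A] m) := fun m =>
    SymmetricAlgebra.lift_ι_apply _ m
  have hfst : (TrivSqZeroExt.fstHom A (SymmetricAlgebra A M) (SymmetricAlgebra A M ⊗[A] M)).comp ψ = AlgHom.id A (SymmetricAlgebra A M) :=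
    SymmetricAlgebra.algHom_ext (LinearMap.ext fun m => by simp [hι])
  let D : Derivation A (SymmetricAlgebra A M) (SymmetricAlgebra A M ⊗[A] M) :=
    { toFun := fun c => TrivSqZeroExt.snd (ψ c)
      map_add' := fun a b => by simp
      map_smul' := fun r a => by simp
      map_one_eq_zero' := by simp
      leibniz' := fun a b => by
        show TrivSqZeroExt.snd (ψ (a * b)) = a • TrivSqZeroExt.snd (ψ b) + b • TrivSqZeroExt.snd (ψ a)
        rw [map_mul, TrivSqZeroExt.snd_mul, op_smul_eq_smul,
          show (ψ a).fst = a from congr($hfst a), show (ψ b).fst = b from congr($hfst b)] }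
  have hDι : ∀ m, D (SymmetricAlgebra.ι A M m) = (1 : (SymmetricAlgebra A M)) ⊗ₜ[A] m := fun m => by
    show TrivSqZeroExt.snd (ψ _) = _
    simp [hι]
  have h1 : D.liftKaehlerDifferential ∘ₗ symToKaehler A M = LinearMap.id := by
    ext m
    show D.liftKaehlerDifferential (symToKaehler A M ((1 : (SymmetricAlgebra A M)) ⊗ₜ[A] m)) = (1 : (SymmetricAlgebra A M)) ⊗ₜ[A] m
    simp [hDι]
  have h2 : symToKaehler A M ∘ₗ D.liftKaehlerDifferential = LinearMap.id := by
    refine Derivation.liftKaehlerDifferential_unique _ _ (Derivation.ext fun c => ?_)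
    show symToKaehler A M (D.liftKaehlerDifferential (KaehlerDifferential.D A (SymmetricAlgebra A M) c)) = KaehlerDifferential.D A (SymmetricAlgebra A M) c
    rw [Derivation.liftKaehlerDifferential_comp_D]
    induction c using SymmetricAlgebra.induction with
    | algebraMap r => simp
    | ι m => simp [hDι]
    | mul a b ha hb => simp [ha, hb]
    | add a b ha hb => simp [ha, hb]
  exact Function.bijective_iff_has_inverse.mpr ⟨D.liftKaehlerDifferential, fun x => congr($h1 x), fun x => congr($h2 x)⟩

end GrothLib.Misc6
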